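import Groth.Agent.H16Derived.Dual.Unit
import Groth.Agent.H16Derived.ProjFormula.Main
import Groth.Agent.H16Derived.ExactAdj
import Groth.Agent.H16Derived.QCohD.Perfect

/-!
# Isomorphisms over an open and the derived tensor product
-/

set_option autoImplicit false
set_option linter.style.haveILetI false

universe u

open CategoryTheory CategoryTheory.Limits CategoryTheory.Functor AlgebraicGeometry

attribute [local instance] HasDerivedCategory.standard

namespace Groth.Agent.H16Derived.Dual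

open Groth.Agent.H16Derived.KFlat Groth.Agent.H16Derived.KFlat.Stalk Groth.Agent.H16Derived.ProjFormula
open Groth.Agent.H16Derived.QCohD

variable {X : Scheme.{u}}

/-- Restriction to an open. -/
noncomputable abbrev rA (A : X.Opens) : DCoh.D X ⥤ DCoh.D A := DCoh.restrictD A.ι

/-- An isomorphism over `A`. -/
def IsoOn (A : X.Opens) {k k' : DCoh.D X} (φ : k ⟶ k') : Prop := IsIso ((rA A).map φ)

lemma isoOn_of_isIso (A : X.Opens) {k k' : DCoh.D X} (φ : k ⟶ k') [IsIso φ] : IsoOn A φ :=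
  Functor.map_isIso _ φ

lemma IsoOn.comp {A : X.Opens} {a b c : DCoh.D X} {φ : a ⟶ b} {ψ : b ⟶ c} (h : IsoOn A φ)
    (h' : IsoOn A ψ) : IsoOn A (φ ≫ ψ) := by
  unfold IsoOn at *
  rw [Functor.map_comp]
  infer_instance

lemma IsoOn.of_comp_left {A : X.Opens} {a b c : DCoh.D X} {φ : a ⟶ b} {ψ : b ⟶ c} (h : IsoOn A φ)
    (h' : IsoOn A (φ ≫ ψ)) : IsoOn A ψ := by
  unfold IsoOn at *
  rw [Functor.map_comp] at h'
  exact IsIso.of_isIso_comp_left ((rA A).map φ) _

lemma IsoOn.of_comp_right {A : X.Opens} {a b c : DCoh.D X} {φ : a ⟶ b} {ψ : b ⟶ c} (h : IsoOn A ψ)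
    (h' : IsoOn A (φ ≫ ψ)) : IsoOn A φ := by
  unfold IsoOn at *
  rw [Functor.map_comp] at h'
  exact IsIso.of_isIso_comp_right _ ((rA A).map ψ)

lemma IsoOn.shift {A : X.Opens} {a b : DCoh.D X} {φ : a ⟶ b} (h : IsoOn A φ) (n : ℤ) :
    IsoOn A (φ⟦n⟧') := by
  unfold IsoOn at *
  exact (NatIso.isIso_map_iff ((rA A).commShiftIso n) φ).2
    (inferInstanceAs (IsIso (((rA A).map φ)⟦n⟧')))

/-- `j_! ⊣ j^*`. -/
noncomputable def cutAdj (A : X.Opens) : CxOX.extZeroD A.ι ⊣ rA A :=
  ExactAdj.mapDerivedCategoryAdj (CxOX.extZeroAdj A.ι)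

/-- Test objects detect isomorphisms over `A`. -/
theorem isoOn_iff_bijective (A : X.Opens) {k k' : DCoh.D X} (φ : k ⟶ k') :
    IsoOn A φ ↔ ∀ H : DCoh.D X, Function.Bijective (fun x : cut A H ⟶ k => x ≫ φ) := by
  have key : ∀ (h : DCoh.D A) (x : (CxOX.extZeroD A.ι).obj h ⟶ k),
      (cutAdj A).homEquiv h k' (x ≫ φ) = (cutAdj A).homEquiv h k x ≫ (rA A).map φ :=
    fun h x => Adjunction.homEquiv_naturality_right _ _ _
  have iff : ∀ h : DCoh.D A,
      Function.Bijective (fun x : (CxOX.extZeroD A.ι).obj h ⟶ k => x ≫ φ) ↔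
      Function.Bijective (fun y : h ⟶ (rA A).obj k => y ≫ (rA A).map φ) := fun h => by
    have e : (fun y : h ⟶ (rA A).obj k => y ≫ (rA A).map φ) ∘ (cutAdj A).homEquiv h k =
        (cutAdj A).homEquiv h k' ∘ fun x => x ≫ φ := funext fun x => (key h x).symm
    rw [← Function.Bijective.of_comp_iff' ((cutAdj A).homEquiv h k').bijective, ← e,
      Function.Bijective.of_comp_iff _ ((cutAdj A).homEquiv h k).bijective]
  constructor
  · intro h H
    exact (iff _).2 ((isIso_iff_yoneda_map_bijective ((rA A).map φ)).1 h _)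
  · intro h
    refine (isIso_iff_yoneda_map_bijective _).2 fun h₀ => ?_
    let C := DerivedCategory.Q.objPreimage h₀
    let EC' := ((CxOX.extZero A.ι).mapHomologicalComplex (ComplexShape.up ℤ)).obj C
    haveI := MV.isIso_extZero_unit A
    let e : (rA A).obj (DerivedCategory.Q.obj EC') ≅ h₀ :=
      (Scheme.Modules.restrictFunctor A.ι).mapDerivedCategoryFactors.app EC' ≪≫
        DerivedCategory.Q.mapIso ((NatIso.mapHomologicalComplex (asIso (CxOX.extZeroAdj A.ι).unit).symm
          (ComplexShape.up ℤ)).app C ≪≫ (Functor.mapHomologicalComplexIdIso _ _).app C) ≪≫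
        DerivedCategory.Q.objObjPreimageIso h₀
    have hb := (iff _).1 (h (DerivedCategory.Q.obj EC'))
    have hc := ((e.homCongr (Iso.refl ((rA A).obj k'))).bijective.comp hb).comp
      (e.homCongr (Iso.refl ((rA A).obj k))).symm.bijective
    convert hc using 1
    funext y
    simp

/-- Quasi-isomorphisms over `A` give isomorphisms over `A`. -/
lemma isoOn_Q_map_iff (A : X.Opens) {E E' : Cx X} (f : E ⟶ E') :
    IsoOn A (DerivedCategory.Q.map f) ↔ QisOn A f := by
  unfold IsoOn QisOn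
  rw [← DerivedCategory.isIso_Q_map_iff_quasiIso (A : Scheme.{u}).Modules]
  exact NatIso.isIso_map_iff (Scheme.Modules.restrictFunctor A.ι).mapDerivedCategoryFactors f

/-- A morphism which is an isomorphism near every point is an isomorphism. -/
theorem isIso_of_isoOn_cover {k k' : DCoh.D X} (φ : k ⟶ k')
    (h : ∀ x : X, ∃ A : X.Opens, x ∈ A ∧ IsoOn A φ) : IsIso φ := by
  obtain ⟨E, ⟨e⟩⟩ : ∃ E : Cx X, Nonempty (DerivedCategory.Q.obj E ≅ k) :=
    ⟨_, ⟨DerivedCategory.Q.objObjPreimageIso k⟩⟩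
  obtain ⟨E', ⟨e'⟩⟩ : ∃ E : Cx X, Nonempty (DerivedCategory.Q.obj E ≅ k') :=
    ⟨_, ⟨DerivedCategory.Q.objObjPreimageIso k'⟩⟩
  obtain ⟨P, s, hs, g, hg⟩ := DerivedCategory.right_fac (e.hom ≫ φ ≫ e'.inv)
  haveI := hs
  have hφ : φ = e.inv ≫ inv (DerivedCategory.Q.map s) ≫ DerivedCategory.Q.map g ≫ e'.hom := by
    rw [← reassoc_of% hg]; simp
  have : QuasiIso g := quasiIso_of_cover g fun x => by
    obtain ⟨A, hx, hA⟩ := h x
    refine ⟨A, hx, (isoOn_Q_map_iff A g).1 ?_⟩
    have hg' : DerivedCategory.Q.map g = DerivedCategory.Q.map s ≫ e.hom ≫ φ ≫ e'.inv := by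
      rw [hg]; simp
    rw [hg']
    exact (isoOn_of_isIso A _).comp ((isoOn_of_isIso A _).comp (hA.comp (isoOn_of_isIso A _)))
  haveI := isIso_Q_map g this
  rw [hφ]
  infer_instance

/-- Morphisms which are isomorphisms over `A` come from K-flat complexes. -/
theorem exists_model_map {A : X.Opens} {k k' : DCoh.D X} {φ : k ⟶ k'} (h : IsoOn A φ) :
    ∃ (E E' : Cx X) (f : E ⟶ E') (e : DerivedCategory.Q.obj E ≅ k) (e' : DerivedCategory.Q.obj E' ≅ k'),
      IsKFlat (DCoh.tensorBi (X := X)) E ∧ IsKFlat (DCoh.tensorBi (X := X)) E' ∧ QisOn A f ∧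
        φ = e.inv ≫ DerivedCategory.Q.map f ≫ e'.hom := by
  let e₀ := DerivedCategory.Q.objObjPreimageIso k
  let e₀' := DerivedCategory.Q.objObjPreimageIso k'
  obtain ⟨P, s, hs, g, hg⟩ := DerivedCategory.right_fac (e₀.hom ≫ φ ≫ e₀'.inv)
  haveI := hs
  haveI := isIso_Q_map _ (quasiIso_resψ P)
  haveI := isIso_Q_map _ (quasiIso_resψ (DerivedCategory.Q.objPreimage k'))
  let e : DerivedCategory.Q.obj ((res (X := X)).obj P) ≅ k :=
    asIso (DerivedCategory.Q.map ((resψ (X := X)).app P)) ≪≫ asIso (DerivedCategory.Q.map s) ≪≫ e₀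
  let e' : DerivedCategory.Q.obj ((res (X := X)).obj (DerivedCategory.Q.objPreimage k')) ≅ k' :=
    asIso (DerivedCategory.Q.map ((resψ (X := X)).app (DerivedCategory.Q.objPreimage k'))) ≪≫ e₀'
  have hfac : φ = e.inv ≫ DerivedCategory.Q.map ((res (X := X)).map g) ≫ e'.hom := by
    rw [Iso.eq_inv_comp]
    have hn : (res (X := X)).map g ≫ (resψ (X := X)).app _ = (resψ (X := X)).app P ≫ g :=
      (resψ (X := X)).naturality g
    simp only [e, e', Iso.trans_hom, asIso_hom, Category.assoc]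
    refine Eq.trans ?_ (((congrArg (· ≫ e₀'.hom) ((DerivedCategory.Q.map_comp _ _).symm.trans
      ((congrArg DerivedCategory.Q.map hn.symm.symm).trans
        (DerivedCategory.Q.map_comp _ _)))).trans (Category.assoc _ _ _)).symm.trans (Category.assoc _ _ _))
    refine congrArg (_ ≫ ·) ?_
    have hg' : DerivedCategory.Q.map g = DerivedCategory.Q.map s ≫ e₀.hom ≫ φ ≫ e₀'.inv := by
      rw [hg]; simp
    rw [hg']
    simp
  refine ⟨_, _, (res (X := X)).map g, e, e', isKFlat_res _, isKFlat_res _,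
    (isoOn_Q_map_iff A _).1 ?_, hfac⟩
  have : DerivedCategory.Q.map ((res (X := X)).map g) = e.hom ≫ φ ≫ e'.inv := by
    rw [hfac]; simp
  rw [this]
  exact (isoOn_of_isIso A _).comp (h.comp (isoOn_of_isIso A _))

/-- `Tot(M, -)` preserves quasi-isomorphisms over `A` of K-flat complexes. -/
theorem qisOn_tot (A : X.Opens) (M : Cx X) {E E' : Cx X} (f : E ⟶ E')
    (hE : IsKFlat (DCoh.tensorBi (X := X)) E) (hE' : IsKFlat (DCoh.tensorBi (X := X)) E')
    (hf : QisOn A f) : QisOn A ((tot (DCoh.tensorBi (X := X)) M).map f) :=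
  qisOn_map A A (tot (DCoh.tensorBi (X := X)) M) f hE hE' hf
    (fun S hS hsp => ⟨S.map (tot (DCoh.tensorBi (X := X)) M),
      shortExact_tot (DCoh.tensorBi (X := X)) M S
        (fun _ _ => isFSES_of_splitting (F := DCoh.tensorBi (X := X)) S hsp _ _),
      Iso.refl _, Iso.refl _, Iso.refl _, (Category.comp_id _).trans (Category.id_comp _).symm⟩)
    (fun π s h₁ h₂ => quasiIso_tot_map_of_homotopy_inverse M π s h₁ h₂)
    (fun W hK hW => acyclic_restrict_tot A M hW hK)

/-- `m ⊗^L -` preserves isomorphisms over `A`. -/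
theorem isoOn_TObj (m : DCoh.D X) {A : X.Opens} {k k' : DCoh.D X} {φ : k ⟶ k'} (h : IsoOn A φ) :
    IsoOn A (((T X).obj m).map φ) := by
  obtain ⟨M, -, hM, ⟨eM⟩⟩ := exists_rep m
  obtain ⟨E, E', f, e, e', hE, hE', hf, rfl⟩ := exists_model_map h
  rw [Functor.map_comp, Functor.map_comp]
  refine (isoOn_of_isIso A _).comp (IsoOn.comp ?_ (isoOn_of_isIso A _))
  have h1 : IsoOn A (((T X).obj (DerivedCategory.Q.obj M)).map (DerivedCategory.Q.map f)) := by
    refine IsoOn.of_comp_right (isoOn_of_isIso A ((TObjIso M hM).hom.app E')) ?_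
    have hn : ((T X).obj (DerivedCategory.Q.obj M)).map (DerivedCategory.Q.map f) ≫
        (TObjIso M hM).hom.app E' = (TObjIso M hM).hom.app E ≫
          DerivedCategory.Q.map ((tot (DCoh.tensorBi (X := X)) M).map f) :=
      (TObjIso M hM).hom.naturality f
    rw [hn]
    exact (isoOn_of_isIso A _).comp ((isoOn_Q_map_iff A _).2 (qisOn_tot A M f hE hE' hf))
  refine IsoOn.of_comp_left (isoOn_of_isIso A (((T X).map eM.hom).app _)) ?_
  rw [← ((T X).map eM.hom).naturality]
  exact h1.comp (isoOn_of_isIso A _)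

lemma isZero_stalk_tot (x : X) (L W : Cx X)
    (hL : ∀ p, IsZero ((DerSch.stalkFunctor X x).obj (L.X p))) (n : ℤ) :
    IsZero ((DerSch.stalkFunctor X x).obj (((tot (DCoh.tensorBi (X := X)) L).obj W).X n)) := by
  refine IsZero.of_iso ?_ ((HomologicalComplex.eval _ _ n).mapIso (stalkTotIso x L W))
  rw [IsZero.iff_id_eq_zero]
  refine HomologicalComplex.mapBifunctor.hom_ext fun p q h => ?_
  exact (((MonoidalCategory.curriedTensor (ModuleCat.{u} (X.presheaf.stalk x))).map_isZero (hL p)).obj _).eq_of_src _ _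

/-- Tensoring a test object kills what vanishes on `A`. -/
theorem acyclic_tot_EC (A : X.Opens) (C : Cx X) {W : Cx X}
    (hK : IsKFlat (DCoh.tensorBi (X := X)) W) (hW : ((DCoh.restrictCx A).obj W).Acyclic) :
    ((tot (DCoh.tensorBi (X := X)) ((MV.EC A).obj C)).obj W).Acyclic := by
  intro i
  rw [HomologicalComplex.exactAt_iff]
  refine (exact_iff _).2 fun x => ?_
  by_cases hx : x ∈ A
  · have h := acyclic_restrict_tot A ((MV.EC A).obj C) hW hK i
    rw [HomologicalComplex.exactAt_iff] at h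
    let K := (tot (DCoh.tensorBi (X := X)) ((MV.EC A).obj C)).obj W
    have hz : IsZero ((Scheme.Modules.restrictFunctor A.ι).obj (K.sc i).homology) :=
      ((ShortComplex.exact_iff_isZero_homology _).1 h).of_iso
        ((K.sc i).mapHomologyIso (Scheme.Modules.restrictFunctor A.ι)).symm
    haveI : IsIso ((Scheme.Modules.restrictFunctor A.ι).map
        (0 : (K.sc i).homology ⟶ (K.sc i).homology)) := by
      exact isIso_of_source_target_iso_zero _ hz.isoZero hz.isoZero
    haveI := MV.isIso_stalk_of_restrict A (0 : (K.sc i).homology ⟶ (K.sc i).homology) x hx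
    rw [ShortComplex.exact_iff_isZero_homology]
    refine IsZero.of_iso ?_ ((K.sc i).mapHomologyIso (DerSch.stalkFunctor X x))
    rw [IsZero.iff_id_eq_zero, ← cancel_mono ((DerSch.stalkFunctor X x).map
      (0 : (K.sc i).homology ⟶ (K.sc i).homology)), Functor.map_zero, comp_zero, comp_zero]
  · exact ShortComplex.exact_of_isZero_X₂ _
      (isZero_stalk_tot x _ W (fun p => MV.isZero_stalk_E A (C.X p) x hx) i)

/-- Test objects see isomorphisms over `A` as isomorphisms after tensoring. -/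
theorem isIso_TObj_cut (A : X.Opens) (H : DCoh.D X) {k k' : DCoh.D X} {φ : k ⟶ k'}
    (h : IsoOn A φ) : IsIso (((T X).obj (cut A H)).map φ) := by
  let C := DerivedCategory.Q.objPreimage H
  let EH := (MV.EC A).obj C
  haveI := isIso_Q_map _ (quasiIso_resψ EH)
  let eM : DerivedCategory.Q.obj ((res (X := X)).obj EH) ≅ cut A H :=
    asIso (DerivedCategory.Q.map ((resψ (X := X)).app EH)) ≪≫ (MV.extZeroDIso A C).symm ≪≫
      (DCoh.restrictD A.ι ⋙ CxOX.extZeroD A.ι).mapIso (DerivedCategory.Q.objObjPreimageIso H)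
  obtain ⟨E, E', f, e, e', hE, hE', hf, rfl⟩ := exists_model_map h
  rw [Functor.map_comp, Functor.map_comp]
  suffices IsIso (((T X).obj (cut A H)).map (DerivedCategory.Q.map f)) by infer_instance
  refine (NatIso.isIso_map_iff ((T X).mapIso eM) (DerivedCategory.Q.map f)).1 ?_
  refine (NatIso.isIso_map_iff (TObjIso _ (isKFlat_flip_res EH)) f).2 (isIso_Q_map _ ?_)
  haveI := quasiIso_resψ EH
  have hq : ∀ G : Cx X, IsKFlat (DCoh.tensorBi (X := X)) G →
      QuasiIso (((DCoh.tensorBi (X := X)).map₂CochainComplex.map ((resψ (X := X)).app EH)).app G) :=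
    fun G hG => quasiIso_left_map _ _ hG
  haveI := hq E hE
  haveI := hq E' hE'
  suffices hh : QuasiIso ((tot (DCoh.tensorBi (X := X)) EH).map f) by
    have hn := ((DCoh.tensorBi (X := X)).map₂CochainComplex.map ((resψ (X := X)).app EH)).naturality f
    haveI : QuasiIso ((tot (DCoh.tensorBi (X := X)) ((res (X := X)).obj EH)).map f ≫
        ((DCoh.tensorBi (X := X)).map₂CochainComplex.map ((resψ (X := X)).app EH)).app E') := by
      rw [hn]; exact quasiIso_comp (hφ := hq E hE) (hφ' := hh) _ _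
    exact quasiIso_of_comp_right _
      (((DCoh.tensorBi (X := X)).map₂CochainComplex.map ((resψ (X := X)).app EH)).app E')
  obtain ⟨S, e, hF, hS, π, s, h₁, h₂, h₃⟩ := exists_cone (F := DCoh.tensorBi (X := X)) f
  have hπ : QuasiIso π := (HomotopyEquiv.mk π s h₂.some (Homotopy.ofEq h₃)).quasiIso_hom
  have hX₂ : IsKFlat (DCoh.tensorBi (X := X)) S.X₂ := fun L hL i => by
    haveI := quasiIso_tot_map_of_homotopy_inverse (F := DCoh.tensorBi (X := X)) L π s h₂
      ⟨Homotopy.ofEq h₃⟩
    rw [HomologicalComplex.exactAt_iff_isZero_homology]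
    exact ((hE' L hL) i).isZero_homology.of_iso
      (isoOfQuasiIsoAt ((tot (DCoh.tensorBi (X := X)) L).map π) i)
  have hX₃ : IsKFlat (DCoh.tensorBi (X := X)) S.X₃ := hF.isKFlat₃ (hE.of_iso e.symm) hX₂
  have hS₃ : ((DCoh.restrictCx A).obj S.X₃).Acyclic := by
    haveI : QuasiIso ((DCoh.restrictCx A).map π) := qisOn_of_quasiIso A π
    haveI : QuasiIso ((DCoh.restrictCx A).map (e.inv ≫ S.f) ≫ (DCoh.restrictCx A).map π) := by
      rw [← Functor.map_comp, Category.assoc, h₁]; exact hf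
    haveI := quasiIso_of_comp_right ((DCoh.restrictCx A).map (e.inv ≫ S.f))
      ((DCoh.restrictCx A).map π)
    haveI : QuasiIso ((DCoh.restrictCx A).map e.inv ≫ (DCoh.restrictCx A).map S.f) := by
      rw [← Functor.map_comp]; infer_instance
    exact ShortComplex.ShortExact.acyclic_X₃ (S := S.map (DCoh.restrictCx A))
      (HomologicalComplex.shortExact_of_degreewise_shortExact _ fun q =>
        (hS.map_of_exact (HomologicalComplex.eval X.Modules (ComplexShape.up ℤ) q)).map_of_exact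
          (Scheme.Modules.restrictFunctor A.ι))
      (quasiIso_of_comp_left ((DCoh.restrictCx A).map e.inv) ((DCoh.restrictCx A).map S.f))
  have hW' := acyclic_tot_EC A C hX₃ hS₃
  have hsf : QuasiIso ((tot (DCoh.tensorBi (X := X)) EH).map S.f) :=
    have h' := shortExact_tot (DCoh.tensorBi (X := X)) EH S fun _ _ => hF _ _
    haveI : Mono ((tot (DCoh.tensorBi (X := X)) EH).map S.f) := h'.mono_f
    KInjRes.quasiIso_of_mono _ (acyclic_of_iso
      (IsColimit.coconePointUniqueUpToIso h'.gIsCokernel (colimit.isColimit _)) hW')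
  have hπ' := quasiIso_tot_map_of_homotopy_inverse (F := DCoh.tensorBi (X := X)) EH π s h₂
    ⟨Homotopy.ofEq h₃⟩
  rw [← h₁, Functor.map_comp, Functor.map_comp]
  infer_instance

end Groth.Agent.H16Derived.Dual
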