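import Groth.Agent.H16Derived.QCohD.Tensor
import Groth.Agent.H16Derived.KFlat.PerfNoeth

/-!
# Perfect objects have quasi-coherent cohomology
-/

set_option autoImplicit false
set_option linter.style.haveILetI false

universe u

open CategoryTheory CategoryTheory.Limits AlgebraicGeometry

attribute [local instance] HasDerivedCategory.standard

namespace Groth.Agent.H16Derived.Dual

open Groth.Agent.H16Derived.KFlat.Stalk Groth.Agent.H16Derived.QCohD

variable {X : Scheme.{u}}

/-- Perfect objects have quasi-coherent cohomology. -/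
theorem isQCohD_of_isPerfect {K : DCoh.D X} (h : DCoh.IsPerfect K) : DCoh.IsQCohD K := by
  rw [isPerfect_iff] at h
  choose V hx hV using h
  choose W hW hxW hWV using fun x : X => X.isBasis_affineOpens.exists_subset_of_mem_open (hx x) (V x).2
  let U : X → X.Opens := fun x => (hW x).choose
  have hUW : ∀ x, (U x : Set X) = W x := fun x => (hW x).choose_spec.2
  have hA : ∀ x, IsAffineOpen (U x) := fun x => (hW x).choose_spec.1
  refine isQCohD_of_affineCover U (eq_top_iff.2 fun x _ => TopologicalSpace.Opens.mem_iSup.2
    ⟨x, by rw [← SetLike.mem_coe, hUW x]; exact hxW x⟩) hA fun x i => ?_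
  have hr : Set.range (hA x).fromSpec.base ⊆ Set.range (V x).ι.base := by
    rw [Scheme.Opens.range_ι, IsAffineOpen.range_fromSpec, hUW x]
    exact hWV x
  let k := IsOpenImmersion.lift (V x).ι (hA x).fromSpec hr
  obtain ⟨E, hE, ⟨α⟩⟩ := (hV x).pull k (hA x).fromSpec (IsOpenImmersion.lift_fac _ _ _)
  exact isQCoh_iso ((((DerivedCategory.homologyFunctorFactors _ i).app E).symm ≪≫
      (DerivedCategory.homologyFunctor _ i).mapIso α))
    (isQCoh_homology (Γ(X, U x)) E (fun q => (isCoh_of_isFinLocFree (hE.2 q)).1) i)

end Groth.Agent.H16Derived.Dual
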