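import Groth.Agent.H16Derived.Dual.Main

/-!
# Symmetry of the derived tensor product
-/

set_option autoImplicit false
set_option linter.style.haveILetI false

universe u

open CategoryTheory CategoryTheory.Limits CategoryTheory.Functor AlgebraicGeometry MonoidalCategory

attribute [local instance] HasDerivedCategory.standard

namespace Groth.Agent.H16Derived.Dual

open Groth.Agent.H16Derived.KFlat Groth.Agent.H16Derived.KFlat.Stalk

variable {X : Scheme.{u}}

/-- The braiding of modules. -/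
noncomputable def braidM : DCoh.tensorBi (X := X) ≅ (DCoh.tensorBi (X := X)).flip :=
  NatIso.ofComponents
    (fun M => NatIso.ofComponents
      (fun N => DCoh.shP.mapIso (β_ (DCoh.toP.obj M) (DCoh.toP.obj N)))
      (fun {N N'} g => ((DCoh.shP (X := X)).map_comp _ _).symm.trans
        ((congrArg DCoh.shP.map (BraidedCategory.braiding_naturality_right _ _)).trans
          ((DCoh.shP (X := X)).map_comp _ _))))
    (fun {M M'} f => NatTrans.ext (funext fun N => ((DCoh.shP (X := X)).map_comp _ _).symm.trans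
      ((congrArg DCoh.shP.map (BraidedCategory.braiding_naturality_left _ _)).trans
        ((DCoh.shP (X := X)).map_comp _ _))))

/-- The bicomplexes of a bifunctor and of an isomorphic one. -/
noncomputable def bicxIso (K L : Cx X) :
    (((DCoh.tensorBi (X := X)).mapBifunctorHomologicalComplex (ComplexShape.up ℤ) (ComplexShape.up ℤ)).obj K).obj L ≅
      (((DCoh.tensorBi (X := X)).flip.mapBifunctorHomologicalComplex (ComplexShape.up ℤ) (ComplexShape.up ℤ)).obj K).obj L :=
  HomologicalComplex.Hom.isoOfComponents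
    (fun p => HomologicalComplex.Hom.isoOfComponents (fun q => (braidM.app (K.X p)).app (L.X q))
      (fun q q' _ => ((braidM (X := X)).hom.app (K.X p)).naturality (L.d q q') |>.symm))
    (fun p p' _ => HomologicalComplex.hom_ext _ _ fun q =>
      (NatTrans.congr_app ((braidM (X := X)).hom.naturality (K.d p p')) (L.X q)).symm)

/-- `K ⊗ L ≅ L ⊗ K`. -/
noncomputable def braidC (K L : Cx X) :
    (DCoh.tensorCx.obj K).obj L ≅ (DCoh.tensorCx.obj L).obj K :=
  HomologicalComplex₂.total.mapIso (bicxIso K L) (ComplexShape.up ℤ) ≪≫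
    HomologicalComplex.mapBifunctorFlipIso L K (DCoh.tensorBi (X := X)) (ComplexShape.up ℤ)

lemma ι_braidC (K L : Cx X) (p q n : ℤ) (h : p + q = n) :
    HomologicalComplex.ιMapBifunctor K L (DCoh.tensorBi (X := X)) (ComplexShape.up ℤ) p q n h ≫
        (braidC K L).hom.f n =
      (((braidM (X := X)).hom.app (K.X p)).app (L.X q)) ≫
        ((ComplexShape.up ℤ).σ (ComplexShape.up ℤ) (ComplexShape.up ℤ) q p •
          HomologicalComplex.ιMapBifunctor L K (DCoh.tensorBi (X := X)) (ComplexShape.up ℤ) q p n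
            (show q + p = n by omega)) := by
  refine (Category.assoc _ _ _).symm.trans ?_
  refine (congrArg (· ≫ _) (HomologicalComplex₂.ιTotal_map (φ := (bicxIso K L).hom) (c₁₂ := ComplexShape.up ℤ) _ _ p q n h)).trans ?_
  refine (Category.assoc _ _ _).trans ?_
  exact congrArg (_ ≫ ·) (HomologicalComplex.ι_mapBifunctorFlipIso_hom L K
    (DCoh.tensorBi (X := X)) (ComplexShape.up ℤ) q p n h)

/-- The braiding is natural. -/
lemma braidC_naturality {K K' L L' : Cx X} (f : K ⟶ K') (g : L ⟶ L') :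
    HomologicalComplex.mapBifunctorMap f g (DCoh.tensorBi (X := X)) (ComplexShape.up ℤ) ≫
        (braidC K' L').hom =
      (braidC K L).hom ≫
        HomologicalComplex.mapBifunctorMap g f (DCoh.tensorBi (X := X)) (ComplexShape.up ℤ) := by
  refine HomologicalComplex.hom_ext _ _ fun n => HomologicalComplex.mapBifunctor.hom_ext fun p q h => ?_
  refine (HomologicalComplex.ι_mapBifunctorMap_assoc _ _ _ _ p q n h _).trans ?_
  refine (congrArg (_ ≫ ·) (congrArg (_ ≫ ·) (ι_braidC K' L' p q n h))).trans ?_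
  refine Eq.trans ?_ ((Category.assoc _ _ _).symm.trans
    ((congrArg (· ≫ _) (ι_braidC K L p q n h)).trans (Category.assoc _ _ _))).symm
  refine Eq.trans ?_ (congrArg (_ ≫ ·) ((Linear.units_smul_comp _ _ _).trans
    (congrArg (fun z => _ • z) (HomologicalComplex.ι_mapBifunctorMap g f
      (DCoh.tensorBi (X := X)) (ComplexShape.up ℤ) q p n (show q + p = n from (add_comm q p).trans h))))).symm
  refine (congrArg (_ ≫ ·) (congrArg (_ ≫ ·) (Linear.comp_units_smul _ _ _))).trans ?_
  refine (congrArg (_ ≫ ·) (Linear.comp_units_smul _ _ _)).trans ?_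
  refine (Linear.comp_units_smul _ _ _).trans (Eq.trans (congrArg (fun z => _ • z) ?_)
    (Linear.comp_units_smul _ _ _).symm)
  have n1 := NatTrans.congr_app ((braidM (X := X)).hom.naturality (f.f p)) (L.X q)
  have n2 := ((braidM (X := X)).hom.app (K'.X p)).naturality (g.f q)
  refine (congrArg (_ ≫ ·) ((Category.assoc _ _ _).symm.trans
    ((congrArg (· ≫ _) n2).trans (Category.assoc _ _ _)))).trans ?_
  refine ((Category.assoc _ _ _).symm.trans
    ((congrArg (· ≫ _) n1).trans (Category.assoc _ _ _))).trans ?_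
  refine congrArg (_ ≫ ·) ?_
  exact (((DCoh.tensorBi (X := X)).map (g.f q)).naturality_assoc (f.f p) _)

/-- `T₂` on resolved pairs. -/
noncomputable def isoRes : QQ X ⋙ T₂ X ≅ res₂ X ⋙ tensor₂ X :=
  haveI : ∀ Y, IsIso ((whiskerRight (res₂ψ X) (QQ X ⋙ T₂ X)).app Y) := fun Y => by
    haveI : IsIso ((QQ X).map ((res₂ψ X).app Y)) :=
      (isIso_prod_iff _ _).2 ⟨isIso_Q_map _ (quasiIso_resψ Y.1), isIso_Q_map _ (quasiIso_resψ Y.2)⟩
    exact Functor.map_isIso (T₂ X) _
  haveI := NatIso.isIso_of_isIso_app (whiskerRight (res₂ψ X) (QQ X ⋙ T₂ X))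
  haveI : ∀ Y, IsIso ((whiskerLeft (res₂ X) (ε X)).app Y) :=
    fun Y => isIso_ε _ _ (Or.inr (isKFlat_res _))
  haveI := NatIso.isIso_of_isIso_app (whiskerLeft (res₂ X) (ε X))
  (asIso (whiskerRight (res₂ψ X) (QQ X ⋙ T₂ X))).symm ≪≫ asIso (whiskerLeft (res₂ X) (ε X))

lemma expand_map {A A' B B' : Cx X} (a : A ⟶ A') (b : B ⟶ B') :
    ((DCoh.tensorCx (X := X)).map a).app B ≫ ((DCoh.tensorCx (X := X)).obj A').map b =
      HomologicalComplex.mapBifunctorMap a b (DCoh.tensorBi (X := X)) (ComplexShape.up ℤ) := by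
  show HomologicalComplex.mapBifunctorMap a (𝟙 B) _ _ ≫
    HomologicalComplex.mapBifunctorMap (𝟙 A') b _ _ = _
  refine HomologicalComplex.hom_ext _ _ fun n => HomologicalComplex.mapBifunctor.hom_ext fun p q h => ?_
  rw [HomologicalComplex.comp_f, HomologicalComplex.ι_mapBifunctorMap_assoc,
    HomologicalComplex.ι_mapBifunctorMap, HomologicalComplex.ι_mapBifunctorMap]
  simp

/-- The braiding on resolved pairs. -/
noncomputable def braidP : res₂ X ⋙ tensor₂ X ≅ CategoryTheory.Prod.swap _ _ ⋙ res₂ X ⋙ tensor₂ X :=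
  NatIso.ofComponents
    (fun Y => DerivedCategory.Q.mapIso (braidC ((res (X := X)).obj Y.1) ((res (X := X)).obj Y.2)))
    (fun {Y Y'} f => by
      have key := braidC_naturality ((res (X := X)).map f.1) ((res (X := X)).map f.2)
      rw [← expand_map, ← expand_map] at key
      exact (DerivedCategory.Q.map_comp _ _).symm.trans
        ((congrArg DerivedCategory.Q.map key).trans (DerivedCategory.Q.map_comp _ _)))

variable (X) in
/-- The symmetry of `T₂`. -/
noncomputable def symm₂ : T₂ X ≅ CategoryTheory.Prod.swap _ _ ⋙ T₂ X :=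
  Localization.liftNatIso (QQ X) (qis₂ X) (QQ X ⋙ T₂ X) (QQ X ⋙ CategoryTheory.Prod.swap _ _ ⋙ T₂ X) _ _
    (isoRes ≪≫ braidP ≪≫ isoWhiskerLeft (CategoryTheory.Prod.swap _ _) isoRes.symm)

/-- `a ⊗^L b ≅ b ⊗^L a`. -/
noncomputable def σ (a b : DCoh.D X) : ((T X).obj a).obj b ≅ ((T X).obj b).obj a :=
  (symm₂ X).app (a, b)

@[reassoc]
lemma σ_naturality_left {a a' : DCoh.D X} (f : a ⟶ a') (b : DCoh.D X) :
    ((T X).map f).app b ≫ (σ a' b).hom = (σ a b).hom ≫ ((T X).obj b).map f :=
  (symm₂ X).hom.naturality (X := (a, b)) (Y := (a', b)) (Prod.mkHom f (𝟙 b))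

@[reassoc]
lemma σ_naturality_right (a : DCoh.D X) {b b' : DCoh.D X} (g : b ⟶ b') :
    ((T X).obj a).map g ≫ (σ a b').hom = (σ a b).hom ≫ ((T X).map g).app a :=
  (symm₂ X).hom.naturality (X := (a, b)) (Y := (a, b')) (Prod.mkHom (𝟙 a) g)

end Groth.Agent.H16Derived.Dual
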