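import Groth.Agent.H16Derived.Dual.Symm

/-!
# Perfect objects are reflexive
-/

set_option autoImplicit false
set_option linter.style.haveILetI false

universe u

open CategoryTheory CategoryTheory.Limits CategoryTheory.Functor AlgebraicGeometry Pretriangulated Opposite

attribute [local instance] HasDerivedCategory.standard

namespace Groth.Agent.H16Derived.Dual

open Groth.Agent.H16Derived.QCohD Groth.Agent.H25DTen

variable {X : Scheme.{u}}

/-- `k ⊗ RHom(k, O) ⟶ O`. -/
noncomputable def zev (k : DCoh.D X) : ((T X).obj k).obj (ro k) ⟶ one X := (σ k (ro k)).hom ≫ ev k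

lemma zev_naturality {k k' : DCoh.D X} (φ : k ⟶ k') :
    ((T X).map φ).app (ro k') ≫ zev k' = ((T X).obj k).map (rmap φ) ≫ zev k := by
  rw [zev, zev, σ_naturality_left_assoc, σ_naturality_right_assoc, rmap_ev]

/-- The biduality map. -/
noncomputable def w (k : DCoh.D X) : k ⟶ ro (ro k) := (adjR (ro k)).homEquiv _ _ (zev k)

/-- `Hom(g, k) ⟶ Hom(g ⊗ RHom(k, O), O)`. -/
noncomputable def tw (g k : DCoh.D X) : (g ⟶ k) →+ (((T X).obj g).obj (ro k) ⟶ one X) :=
  AddMonoidHom.mk' (fun y => ((T X).map y).app (ro k) ≫ zev k) fun x y => by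
    change ((T X).flip.obj (ro k)).map (x + y) ≫ _ = _
    rw [Functor.map_add]
    exact Preadditive.add_comp _ _ _ _ _ _

lemma tw_eq (g k : DCoh.D X) (y : g ⟶ k) :
    tw g k y = ((adjR (ro k)).homEquiv _ _).symm (y ≫ w k) := by
  rw [w, ← Adjunction.homEquiv_naturality_left, Equiv.symm_apply_apply]
  rfl

lemma tw_naturality (g : DCoh.D X) {k k' : DCoh.D X} (φ : k ⟶ k') (y : g ⟶ k) :
    tw g k' (y ≫ φ) = ((T X).obj g).map (rmap φ) ≫ tw g k y := by
  show ((T X).map (y ≫ φ)).app (ro k') ≫ zev k' = _ ≫ ((T X).map y).app (ro k) ≫ zev k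
  rw [Functor.map_comp, NatTrans.comp_app, Category.assoc, zev_naturality, NatTrans.naturality_assoc]

variable (g : DCoh.D X)

/-- `k ↦ Hom(g ⊗ RHom(k, O), O)`. -/
noncomputable def bidF : DCoh.D X ⥤ AddCommGrpCat.{u + 1} where
  obj k := AddCommGrpCat.of (((T X).obj g).obj (ro k) ⟶ one X)
  map φ := AddCommGrpCat.ofHom (Preadditive.leftComp (one X) (((T X).obj g).map (rmap φ)))
  map_id k := by
    ext x
    change ((T X).obj g).map (rmap (𝟙 k)) ≫ x = x
    rw [rmap_id, CategoryTheory.Functor.map_id, Category.id_comp]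
  map_comp φ ψ := by
    ext x
    change ((T X).obj g).map (rmap (φ ≫ ψ)) ≫ x = _ ≫ _ ≫ x
    rw [rmap_comp, Functor.map_comp, Category.assoc]

/-- The natural transformation. -/
noncomputable def twNat : preadditiveCoyoneda.obj (op g) ⟶ bidF g where
  app k := AddCommGrpCat.ofHom (tw g k)
  naturality k k' φ := by
    ext y
    exact tw_naturality g φ y

theorem isExact_bidF : Dev.IsExact (bidF g) := by
  intro T₀ hT x
  constructor
  · intro hx
    obtain ⟨C, j, δ, hd⟩ := distinguished_cocone_triangle₁ (rmap T₀.mor₁)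
    have hj : j ≫ rmap T₀.mor₁ = 0 := comp_distTriang_mor_zero₁₂ _ hd
    have hz : ((T X).obj C).map T₀.mor₁ ≫ ((T X).map j).app T₀.obj₂ ≫ ev T₀.obj₂ = 0 := by
      rw [← comp_rmap, hj]
      exact (congrArg (· ≫ ev _) (((T X).flip.obj T₀.obj₁).map_zero _ _)).trans zero_comp
    obtain ⟨r, hr⟩ := Dev.exists_factor_map (Adjunction.ofIsLeftAdjoint ((T X).obj C)) _ hT _ hz
    obtain ⟨t, ht⟩ := ev_surjective r
    have htj : t ≫ rmap T₀.mor₂ = j := ev_injective (by rw [comp_rmap, ht, hr])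
    have h0 : ((T X).obj g).map j ≫ x = 0 := by
      rw [← htj, Functor.map_comp, Category.assoc]
      exact (congrArg (_ ≫ ·) hx).trans comp_zero
    obtain ⟨q, hq⟩ := Dev.exists_factor_map (Adjunction.ofIsLeftAdjoint ((T X).obj g)) _ hd x h0
    exact ⟨q, hq⟩
  · rintro ⟨y, rfl⟩
    change ((T X).obj g).map (rmap T₀.mor₂) ≫ ((T X).obj g).map (rmap T₀.mor₁) ≫ y = 0
    rw [← Functor.map_comp_assoc, ← rmap_comp, comp_distTriang_mor_zero₁₂ _ hT, rmap_zero,
      Functor.map_zero, zero_comp]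

theorem isExact_coyoneda : Dev.IsExact (preadditiveCoyoneda.obj (op g)) := by
  intro T₀ hT x
  constructor
  · intro hx
    obtain ⟨y, hy⟩ := Triangle.coyoneda_exact₂ T₀ hT x hx
    exact ⟨y, hy.symm⟩
  · rintro ⟨y, rfl⟩
    change (y ≫ T₀.mor₁) ≫ T₀.mor₂ = 0
    rw [Category.assoc, comp_distTriang_mor_zero₁₂ _ hT, comp_zero]

variable {g}

/-- `w` is an isomorphism over `A` for all shifts. -/
def Refl (A : X.Opens) (k : DCoh.D X) : Prop := ∀ n : ℤ, IsoOn A (w (k⟦n⟧))

lemma isoOn_w_iff (A : X.Opens) (k : DCoh.D X) :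
    IsoOn A (w k) ↔ ∀ H : DCoh.D X, Function.Bijective (tw (cut A H) k) := by
  rw [isoOn_iff_bijective]
  refine forall_congr' fun H => ?_
  have e : ⇑(tw (cut A H) k) = ((adjR (ro k)).homEquiv _ _).symm ∘ fun y => y ≫ w k :=
    funext fun y => tw_eq _ _ y
  rw [e, Function.Bijective.of_comp_iff' ((adjR (ro k)).homEquiv _ _).symm.bijective]

lemma tw_bijective_iff_of_isoOn (A : X.Opens) {k k' : DCoh.D X} {φ : k ⟶ k'} (h : IsoOn A φ)
    (H : DCoh.D X) :
    Function.Bijective (tw (cut A H) k') ↔ Function.Bijective (tw (cut A H) k) := by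
  have hl : Function.Bijective (fun y : cut A H ⟶ k => y ≫ φ) := (isoOn_iff_bijective A _).1 h H
  haveI := isIso_TObj_cut A H (isoOn_rmap h)
  have hr : Function.Bijective fun z : ((T X).obj (cut A H)).obj (ro k) ⟶ one X =>
      ((T X).obj (cut A H)).map (rmap φ) ≫ z :=
    ((asIso (((T X).obj (cut A H)).map (rmap φ))).symm.homCongr (Iso.refl (one X))).bijective |> fun hb => by
      convert hb using 1
      funext z
      simp
  have e : ⇑(tw (cut A H) k') ∘ (fun y => y ≫ φ) =
      (fun z => ((T X).obj (cut A H)).map (rmap φ) ≫ z) ∘ ⇑(tw (cut A H) k) :=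
    funext fun y => tw_naturality _ φ y
  rw [← Function.Bijective.of_comp_iff _ hl, e, Function.Bijective.of_comp_iff' hr]

theorem invOn_refl (A : X.Opens) : InvOn A (Refl (X := X) A) := fun {k k'} φ h => by
  refine forall_congr' fun n => ?_
  rw [isoOn_w_iff, isoOn_w_iff]
  exact forall_congr' fun H => tw_bijective_iff_of_isoOn A (h.shift n) H

theorem stable_refl (A : X.Opens) : Stable (X := X) (Refl A) where
  of_iso e h := (invOn_refl A e.inv (isoOn_of_isIso A _)).1 h
  shift {K} h n p := by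
    have := h (n + p)
    rw [isoOn_w_iff] at this ⊢
    intro H
    exact (tw_bijective_iff_of_isoOn A
      (isoOn_of_isIso A ((shiftFunctorAdd (DCoh.D X) n p).app K).hom) H).2 (this H)
  ext₂ T₀ hT h₁ h₃ n := by
    rw [isoOn_w_iff]
    intro H
    exact Dev.bijective_shift_ext (twNat (cut A H)) (isExact_coyoneda _) (isExact_bidF _)
      T₀ hT (fun p => (isoOn_w_iff A _).1 (h₁ p) H) (fun p => (isoOn_w_iff A _).1 (h₃ p) H) n
  of_isZero {K} hK n := by
    have hz : IsZero (K⟦n⟧) := Functor.map_isZero _ hK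
    have h2 : IsZero (ro (ro (K⟦n⟧))) := by
      rw [IsZero.iff_id_eq_zero]
      apply ((adjR _).homEquiv _ _).symm.injective
      exact (Functor.map_isZero ((T X).obj _) (isZero_ro hz)).eq_of_src _ _
    haveI : IsIso (w (K⟦n⟧)) := isIso_of_source_target_iso_zero _ hz.isoZero h2.isoZero
    exact isoOn_of_isIso A _

theorem refl_o (A : X.Opens) (p : ℤ) : Refl A (o X p) := fun n => by
  haveI : ((T X).flip.obj ((o X p)⟦n⟧)).IsEquivalence :=
    Functor.isEquivalence_of_iso ((T X).flip.mapIso (oShiftIso p n).symm)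
  haveI : ((T X).flip.obj (ro ((o X p)⟦n⟧))).IsEquivalence :=
    Functor.isEquivalence_of_iso ((T X).flip.mapIso
      ((roIso (oShiftIso p n)).symm ≪≫ roOIso (p + n)).symm)
  haveI : IsIso (ev ((o X p)⟦n⟧)) := inferInstanceAs (IsIso ((adjR _).counit.app (one X)))
  haveI : IsIso (zev ((o X p)⟦n⟧)) := by unfold zev; infer_instance
  haveI : IsIso (w ((o X p)⟦n⟧)) := by
    rw [w, Adjunction.homEquiv_unit]
    infer_instance
  exact isoOn_of_isIso A _

/-- Perfect objects are reflexive. -/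
theorem isIso_w {k : DCoh.D X} (hk : DCoh.IsPerfect k) : IsIso (w k) := by
  refine isIso_of_isoOn_cover _ fun x => ?_
  obtain ⟨A, hx, hA⟩ := exists_freeModel hk x
  have h0 := freeModel_induction (stable_refl A) (invOn_refl A) (refl_o A) hA 0
  rw [isoOn_w_iff] at h0
  exact ⟨A, hx, (isoOn_w_iff A k).2 fun H => (tw_bijective_iff_of_isoOn A
    (isoOn_of_isIso A ((shiftFunctorZero (DCoh.D X) ℤ).app k).inv) H).1 (h0 H)⟩

/-- `RHom(a ⊗ b, m) ≅ RHom(a, RHom(b, m))`. -/
noncomputable def curryIso (a b m : DCoh.D X) :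
    (R a).obj ((R b).obj m) ≅ (R (((T X).obj a).obj b)).obj m :=
  (((((adjR a).comp (adjR b)).ofNatIsoLeft (flipAssoc a b)).rightAdjointUniq (adjR _))).app m

/-- An isomorphism in the first variable of `RHom`. -/
noncomputable def RIso {k k' : DCoh.D X} (e : k ≅ k') : R k ≅ R k' :=
  ((adjR k).ofNatIsoLeft ((T X).flip.mapIso e)).rightAdjointUniq (adjR k')

/-- `RHom(RHom(k, l), m) ≅ RHom(l, m) ⊗ k` for perfect `k`. -/
noncomputable def evaluationIso {k : DCoh.D X} (hk : DCoh.IsPerfect k) (l m : DCoh.D X) :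
    ((T X).obj ((R l).obj m)).obj k ≅ (R ((R k).obj l)).obj m :=
  haveI := isIso_w hk
  ((T X).obj ((R l).obj m)).mapIso (asIso (w k)) ≪≫ θIso (isPerfect_ro hk) _ ≪≫
    curryIso (ro k) l m ≪≫ (RIso (σ (ro k) l ≪≫ θIso hk l)).app m

end Groth.Agent.H16Derived.Dual
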