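import Groth.Agent.H16Derived.Dual.Perfect

/-!
# `RHom(K, -) ≅ - ⊗^L RHom(K, O)` for perfect `K`
-/

set_option autoImplicit false
set_option linter.style.haveILetI false

universe u

open CategoryTheory CategoryTheory.Limits CategoryTheory.Functor AlgebraicGeometry

attribute [local instance] HasDerivedCategory.standard

namespace Groth.Agent.H16Derived.Dual

variable {X : Scheme.{u}}

/-- The adjunction behind `RSheafHom`, through the bifunctor. -/
noncomputable def rsheafHomIso (E : Cx X) [DCoh.HasLTensorCx E] [DCoh.HasRSheafHom E] :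
    DCoh.RSheafHom E ≅ R (DerivedCategory.Q.obj E) :=
  ((DCoh.RSheafHomAdj E).ofNatIsoLeft (ltensorCxIsoT E).symm).rightAdjointUniq (adjR _)

/-- The unit of `D(X)` is `O[0]`. -/
noncomputable def oneIso : (DerivedCategory.singleFunctor X.Modules 0).obj (Coh.structureModule X) ≅ one X :=
  (DerivedCategory.singleFunctorIsoCompQ X.Modules 0).app _

/-- The dual in the language of `RSheafHom`. -/
noncomputable def dualIso (E : Cx X) [DCoh.HasLTensorCx E] [DCoh.HasRSheafHom E] :
    (DCoh.RSheafHom E).obj ((DerivedCategory.singleFunctor X.Modules 0).obj (Coh.structureModule X)) ≅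
      ro (DerivedCategory.Q.obj E) :=
  (rsheafHomIso E).app _ ≪≫ (R _).mapIso oneIso

/-- `m ⊗^L RHom(k, O) ≅ RHom(k, m)` for perfect `k`. -/
noncomputable def θIso {k : DCoh.D X} (hk : DCoh.IsPerfect k) (m : DCoh.D X) :
    ((T X).obj m).obj (ro k) ≅ (R k).obj m :=
  haveI := isIso_θ hk m
  asIso (θ k m)

end Groth.Agent.H16Derived.Dual
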