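import Mathlib.Algebra.Homology.BifunctorAssociator
import Mathlib.Algebra.Homology.BifunctorHomotopy

/-!
# Naturality of the associator for total complexes, in all variables
-/

set_option autoImplicit false

open CategoryTheory Category Limits HomologicalComplex

namespace Groth.Agent.H16Derived.Dual.AssocNat3

variable {C₁ C₂ C₁₂ C₂₃ C₃ C₄ : Type*}
  [Category* C₁] [Category* C₂] [Category* C₃] [Category* C₄] [Category* C₁₂] [Category* C₂₃]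
  [HasZeroMorphisms C₁] [HasZeroMorphisms C₂] [HasZeroMorphisms C₃]
  [Preadditive C₁₂] [Preadditive C₂₃] [Preadditive C₄]
  {F₁₂ : C₁ ⥤ C₂ ⥤ C₁₂} {G : C₁₂ ⥤ C₃ ⥤ C₄}
  {F : C₁ ⥤ C₂₃ ⥤ C₄} {G₂₃ : C₂ ⥤ C₃ ⥤ C₂₃}
  [F₁₂.PreservesZeroMorphisms] [∀ (X₁ : C₁), (F₁₂.obj X₁).PreservesZeroMorphisms]
  [G.Additive] [∀ (X₁₂ : C₁₂), (G.obj X₁₂).PreservesZeroMorphisms]
  [G₂₃.PreservesZeroMorphisms] [∀ (X₂ : C₂), (G₂₃.obj X₂).PreservesZeroMorphisms]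
  [F.PreservesZeroMorphisms] [∀ (X₁ : C₁), (F.obj X₁).Additive]
  (associator : bifunctorComp₁₂ F₁₂ G ≅ bifunctorComp₂₃ F G₂₃)
  {ι₁ ι₂ ι₃ ι₁₂ ι₂₃ ι₄ : Type*} [DecidableEq ι₄] [DecidableEq ι₁₂] [DecidableEq ι₂₃]
  {c₁ : ComplexShape ι₁} {c₂ : ComplexShape ι₂} {c₃ : ComplexShape ι₃}
  {K₁ L₁ : HomologicalComplex C₁ c₁} (φ : K₁ ⟶ L₁) {K₂ L₂ : HomologicalComplex C₂ c₂} (φ₂ : K₂ ⟶ L₂)
  {K₃ L₃ : HomologicalComplex C₃ c₃} (φ₃ : K₃ ⟶ L₃)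
  (c₁₂ : ComplexShape ι₁₂) (c₂₃ : ComplexShape ι₂₃) (c₄ : ComplexShape ι₄)
  [TotalComplexShape c₁ c₂ c₁₂] [TotalComplexShape c₁₂ c₃ c₄]
  [TotalComplexShape c₂ c₃ c₂₃] [TotalComplexShape c₁ c₂₃ c₄]
  [HasMapBifunctor K₁ K₂ F₁₂ c₁₂] [HasMapBifunctor L₁ L₂ F₁₂ c₁₂] [HasMapBifunctor K₂ K₃ G₂₃ c₂₃]
  [HasMapBifunctor L₂ L₃ G₂₃ c₂₃]
  [ComplexShape.Associative c₁ c₂ c₃ c₁₂ c₂₃ c₄]
  [HasMapBifunctor (mapBifunctor K₁ K₂ F₁₂ c₁₂) K₃ G c₄]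
  [HasMapBifunctor (mapBifunctor L₁ L₂ F₁₂ c₁₂) L₃ G c₄]
  [HasMapBifunctor K₁ (mapBifunctor K₂ K₃ G₂₃ c₂₃) F c₄]
  [HasMapBifunctor L₁ (mapBifunctor L₂ L₃ G₂₃ c₂₃) F c₄]
  [HasGoodTrifunctor₁₂Obj F₁₂ G K₁ K₂ K₃ c₁₂ c₄]
  [HasGoodTrifunctor₁₂Obj F₁₂ G L₁ L₂ L₃ c₁₂ c₄]
  [HasGoodTrifunctor₂₃Obj F G₂₃ K₁ K₂ K₃ c₁₂ c₂₃ c₄]
  [HasGoodTrifunctor₂₃Obj F G₂₃ L₁ L₂ L₃ c₁₂ c₂₃ c₄]

set_option backward.isDefEq.respectTransparency false in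
/-- The associator is natural. -/
theorem naturality :
    mapBifunctorMap (mapBifunctorMap φ φ₂ F₁₂ c₁₂) φ₃ G c₄ ≫
        (mapBifunctorAssociator associator L₁ L₂ L₃ c₁₂ c₂₃ c₄).hom =
      (mapBifunctorAssociator associator K₁ K₂ K₃ c₁₂ c₂₃ c₄).hom ≫
        mapBifunctorMap φ (mapBifunctorMap φ₂ φ₃ G₂₃ c₂₃) F c₄ := by
  refine HomologicalComplex.hom_ext _ _ fun j => ?_
  refine mapBifunctor₁₂.hom_ext fun i₁ i₂ i₃ h => ?_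
  simp only [comp_f, mapBifunctorAssociator, Hom.isoOfComponents_hom_f,
    ι_mapBifunctorAssociatorX_hom_assoc]
  rw [mapBifunctor₁₂.ι_eq F₁₂ G K₁ K₂ K₃ c₁₂ c₄ i₁ i₂ i₃ _ j rfl h]
  rw [Category.assoc, ι_mapBifunctorMap_assoc]
  rw [← NatTrans.comp_app_assoc, ← G.map_comp, ι_mapBifunctorMap]
  simp only [Functor.map_comp, NatTrans.comp_app, Category.assoc]
  have e1 : ∀ {W : C₄} (z : (G.obj ((mapBifunctor L₁ L₂ F₁₂ c₁₂).X (ComplexShape.π c₁ c₂ c₁₂ (i₁, i₂)))).obj (L₃.X i₃) ⟶ W),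
      (G.map (ιMapBifunctor L₁ L₂ F₁₂ c₁₂ i₁ i₂ _ rfl)).app (K₃.X i₃) ≫
        (G.obj ((mapBifunctor L₁ L₂ F₁₂ c₁₂).X (ComplexShape.π c₁ c₂ c₁₂ (i₁, i₂)))).map (φ₃.f i₃) ≫ z =
      (G.obj ((F₁₂.obj (L₁.X i₁)).obj (L₂.X i₂))).map (φ₃.f i₃) ≫
        (G.map (ιMapBifunctor L₁ L₂ F₁₂ c₁₂ i₁ i₂ _ rfl)).app (L₃.X i₃) ≫ z := fun z =>
    ((G.map _).naturality_assoc _ _).symm
  erw [e1]
  rw [← Category.assoc ((G.map _).app _) (ιMapBifunctor _ _ _ _ _ _ _ _),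
    ← mapBifunctor₁₂.ι_eq F₁₂ G L₁ L₂ L₃ c₁₂ c₄ i₁ i₂ i₃ _ j rfl h]
  simp only [ι_mapBifunctorAssociatorX_hom]
  rw [mapBifunctor₂₃.ι_eq F G₂₃ K₁ K₂ K₃ c₁₂ c₂₃ c₄ i₁ i₂ i₃ _ j rfl
      (by rw [← h]; exact (ComplexShape.assoc c₁ c₂ c₃ c₁₂ c₂₃ c₄ i₁ i₂ i₃).symm),
    mapBifunctor₂₃.ι_eq F G₂₃ L₁ L₂ L₃ c₁₂ c₂₃ c₄ i₁ i₂ i₃ _ j rfl
      (by rw [← h]; exact (ComplexShape.assoc c₁ c₂ c₃ c₁₂ c₂₃ c₄ i₁ i₂ i₃).symm)]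
  simp only [Category.assoc, ι_mapBifunctorMap]
  have n1 := NatTrans.naturality_app_app associator.hom (φ.f i₁) (K₂.X i₂) (K₃.X i₃)
  have n2 := ((associator.hom.app (L₁.X i₁))).naturality_app (K₃.X i₃) (φ₂.f i₂)
  have n3 := ((associator.hom.app (L₁.X i₁)).app (L₂.X i₂)).naturality (φ₃.f i₃)
  refine (congrArg (_ ≫ ·) (congrArg (_ ≫ ·) ((Category.assoc _ _ _).symm.trans
    ((congrArg (· ≫ _) n3).trans (Category.assoc _ _ _))))).trans ?_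
  refine (congrArg (_ ≫ ·) ((Category.assoc _ _ _).symm.trans
    ((congrArg (· ≫ _) n2).trans (Category.assoc _ _ _)))).trans ?_
  refine ((Category.assoc _ _ _).symm.trans
    ((congrArg (· ≫ _) n1).trans (Category.assoc _ _ _))).trans ?_
  refine congrArg (_ ≫ ·) ?_
  dsimp [bifunctorComp₂₃, bifunctorComp₂₃Obj]
  refine Eq.trans ?_ ((F.map (φ.f i₁)).naturality_assoc _ _).symm
  simp only [← Functor.map_comp_assoc, ι_mapBifunctorMap]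
  try rfl

end Groth.Agent.H16Derived.Dual.AssocNat3
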