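import Groth.Agent.H16Derived.Dual.Bifunctor
import Groth.Agent.H16Derived.Dual.AssocNat3
import Groth.Agent.H16Derived.KFlat.LTensorAssoc

/-!
# Associativity of the derived tensor product bifunctor
-/

set_option autoImplicit false
set_option linter.style.haveILetI false

universe u

open CategoryTheory CategoryTheory.Limits CategoryTheory.Functor AlgebraicGeometry

attribute [local instance] HasDerivedCategory.standard

namespace Groth.Agent.H16Derived.Dual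

open Groth.Agent.H16Derived.KFlat Groth.Agent.H16Derived.KFlat.Stalk

variable (X : Scheme.{u})

/-- Triples of quasi-isomorphisms. -/
abbrev qis₃ : MorphismProperty ((Cx X × Cx X) × Cx X) :=
  (qis₂ X).prod (HomologicalComplex.quasiIso X.Modules (ComplexShape.up ℤ))

/-- `(Q × Q) × Q`. -/
noncomputable abbrev QQQ : (Cx X × Cx X) × Cx X ⥤ (DCoh.D X × DCoh.D X) × DCoh.D X :=
  (QQ X).prod DerivedCategory.Q

/-- `((a, b), c) ↦ (a ⊗^L b) ⊗^L c`. -/
noncomputable abbrev TL₃ : (DCoh.D X × DCoh.D X) × DCoh.D X ⥤ DCoh.D X :=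
  (T₂ X).prod (𝟭 _) ⋙ T₂ X

/-- `((a, b), c) ↦ a ⊗^L (b ⊗^L c)`. -/
noncomputable abbrev TR₃ : (DCoh.D X × DCoh.D X) × DCoh.D X ⥤ DCoh.D X :=
  prod.associator _ _ _ ⋙ (𝟭 _).prod (T₂ X) ⋙ T₂ X

/-- The resolution of triples. -/
noncomputable abbrev res₃ : (Cx X × Cx X) × Cx X ⥤ (Cx X × Cx X) × Cx X :=
  (res₂ X).prod (res (X := X))

/-- `((A, B), C) ↦ (A ⊗ B) ⊗ C`. -/
noncomputable abbrev PL : (Cx X × Cx X) × Cx X ⥤ DCoh.D X :=
  (Functor.uncurry.obj (DCoh.tensorCx (X := X))).prod (𝟭 _) ⋙ tensor₂ X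

/-- `((A, B), C) ↦ A ⊗ (B ⊗ C)`. -/
noncomputable abbrev PR : (Cx X × Cx X) × Cx X ⥤ DCoh.D X :=
  prod.associator _ _ _ ⋙ (𝟭 _).prod (Functor.uncurry.obj (DCoh.tensorCx (X := X))) ⋙ tensor₂ X

/-- The counit of `TL₃`. -/
noncomputable def εL : QQQ X ⋙ TL₃ X ⟶ PL X where
  app Y := (T₂ X).map (Prod.mkHom ((ε X).app Y.1) (𝟙 (DerivedCategory.Q.obj Y.2))) ≫
    (ε X).app ((Functor.uncurry.obj (DCoh.tensorCx (X := X))).obj Y.1, Y.2)
  naturality Y Y' f := by
    have h1 := (ε X).naturality f.1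
    have h2 := (ε X).naturality (X := ((Functor.uncurry.obj (DCoh.tensorCx (X := X))).obj Y.1, Y.2))
      (Y := ((Functor.uncurry.obj (DCoh.tensorCx (X := X))).obj Y'.1, Y'.2))
      (Prod.mkHom ((Functor.uncurry.obj (DCoh.tensorCx (X := X))).map f.1) f.2)
    refine Eq.trans ?_ ((congrArg (_ ≫ ·) h2).trans (Category.assoc _ _ _).symm)
    refine (Category.assoc _ _ _).symm.trans (Eq.trans ?_ (Category.assoc _ _ _))
    refine congrArg (· ≫ _) ?_
    refine ((T₂ X).map_comp _ _).symm.trans (Eq.trans (congrArg (fun z => (T₂ X).map z) ?_)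
      ((T₂ X).map_comp _ _))
    exact Prod.ext h1 ((Category.comp_id _).trans (Category.id_comp _).symm)

/-- The counit of `TR₃`. -/
noncomputable def εR : QQQ X ⋙ TR₃ X ⟶ PR X where
  app Y := (T₂ X).map (Prod.mkHom (𝟙 (DerivedCategory.Q.obj Y.1.1)) ((ε X).app (Y.1.2, Y.2))) ≫
    (ε X).app (Y.1.1, (Functor.uncurry.obj (DCoh.tensorCx (X := X))).obj (Y.1.2, Y.2))
  naturality Y Y' f := by
    have h1 := (ε X).naturality (X := (Y.1.2, Y.2)) (Y := (Y'.1.2, Y'.2)) (Prod.mkHom f.1.2 f.2)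
    have h2 := (ε X).naturality
      (X := (Y.1.1, (Functor.uncurry.obj (DCoh.tensorCx (X := X))).obj (Y.1.2, Y.2)))
      (Y := (Y'.1.1, (Functor.uncurry.obj (DCoh.tensorCx (X := X))).obj (Y'.1.2, Y'.2)))
      (Prod.mkHom f.1.1 ((Functor.uncurry.obj (DCoh.tensorCx (X := X))).map
        (Prod.mkHom f.1.2 f.2 : (Y.1.2, Y.2) ⟶ (Y'.1.2, Y'.2))))
    refine Eq.trans ?_ ((congrArg (_ ≫ ·) h2).trans (Category.assoc _ _ _).symm)
    refine (Category.assoc _ _ _).symm.trans (Eq.trans ?_ (Category.assoc _ _ _))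
    refine congrArg (· ≫ _) ?_
    refine ((T₂ X).map_comp _ _).symm.trans (Eq.trans (congrArg (fun z => (T₂ X).map z) ?_)
      ((T₂ X).map_comp _ _))
    exact Prod.ext ((Category.comp_id _).trans (Category.id_comp _).symm) h1

variable {X}

lemma isIso_εL (A B C : Cx X) (hA : IsKFlat (DCoh.tensorBi (X := X)).flip A)
    (hC : IsKFlat (DCoh.tensorBi (X := X)) C) : IsIso ((εL X).app ((A, B), C)) := by
  haveI := isIso_ε A B (Or.inl hA)
  haveI : IsIso (Prod.mkHom ((ε X).app (A, B)) (𝟙 (DerivedCategory.Q.obj C))) :=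
    (isIso_prod_iff _ _).2 ⟨inferInstance, inferInstance⟩
  exact IsIso.comp_isIso' ((T₂ X).map_isIso _)
    (isIso_ε ((Functor.uncurry.obj (DCoh.tensorCx (X := X))).obj (A, B)) C (Or.inr hC))

lemma isIso_εR (A B C : Cx X) (hA : IsKFlat (DCoh.tensorBi (X := X)).flip A)
    (hB : IsKFlat (DCoh.tensorBi (X := X)).flip B) : IsIso ((εR X).app ((A, B), C)) := by
  haveI := isIso_ε B C (Or.inl hB)
  haveI : IsIso (Prod.mkHom (𝟙 (DerivedCategory.Q.obj A)) ((ε X).app (B, C))) :=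
    (isIso_prod_iff _ _).2 ⟨inferInstance, inferInstance⟩
  exact IsIso.comp_isIso' (@Functor.map_isIso _ _ _ _ _ _ (T₂ X) _ ((isIso_prod_iff (f := Prod.mkHom (𝟙 (DerivedCategory.Q.obj A)) ((ε X).app (B, C)))).2 ⟨inferInstance, isIso_ε B C (Or.inl hB)⟩))
    (isIso_ε A ((Functor.uncurry.obj (DCoh.tensorCx (X := X))).obj (B, C)) (Or.inl hA))

lemma uncurry_map_eq {Y Y' : Cx X × Cx X} (g : Y ⟶ Y') :
    (Functor.uncurry.obj (DCoh.tensorCx (X := X))).map g =
      HomologicalComplex.mapBifunctorMap g.1 g.2 (DCoh.tensorBi (X := X)) (ComplexShape.up ℤ) := by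
  show HomologicalComplex.mapBifunctorMap g.1 (𝟙 Y.2) _ _ ≫
    HomologicalComplex.mapBifunctorMap (𝟙 Y'.1) g.2 _ _ = _
  refine HomologicalComplex.hom_ext _ _ fun n => HomologicalComplex.mapBifunctor.hom_ext fun p q h => ?_
  rw [HomologicalComplex.comp_f, HomologicalComplex.ι_mapBifunctorMap_assoc,
    HomologicalComplex.ι_mapBifunctorMap, HomologicalComplex.ι_mapBifunctorMap]
  simp

/-- Naturality of the associator of complexes. -/
noncomputable def assocP : PL X ≅ PR X :=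
  NatIso.ofComponents
    (fun Y => DerivedCategory.Q.mapIso
      (HomologicalComplex.mapBifunctorAssociator (sheafAssoc (X := X)) Y.1.1 Y.1.2 Y.2
        (ComplexShape.up ℤ) (ComplexShape.up ℤ) (ComplexShape.up ℤ)))
    (fun {Y Y'} f => by
      refine (DerivedCategory.Q.map_comp _ _).symm.trans
        (Eq.trans (congrArg DerivedCategory.Q.map ?_) (DerivedCategory.Q.map_comp _ _))
      have key := AssocNat3.naturality (sheafAssoc (X := X)) f.1.1 f.1.2 f.2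
        (ComplexShape.up ℤ) (ComplexShape.up ℤ) (ComplexShape.up ℤ)
      refine Eq.trans (congrArg (· ≫ _) ?_) (key.trans (congrArg (_ ≫ ·) ?_))
      · refine (uncurry_map_eq _).trans ?_
        exact congrArg (fun z => HomologicalComplex.mapBifunctorMap z f.2 _ _) (uncurry_map_eq f.1)
      · refine Eq.symm ((uncurry_map_eq _).trans ?_)
        exact congrArg (fun z => HomologicalComplex.mapBifunctorMap f.1.1 z _ _)
          (uncurry_map_eq (Prod.mkHom f.1.2 f.2)))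

/-- `TL₃` on resolved triples. -/
noncomputable def isoL : QQQ X ⋙ TL₃ X ≅ res₃ X ⋙ PL X :=
  haveI : ∀ Y, IsIso ((whiskerRight (NatTrans.prod (res₂ψ X) (resψ (X := X))) (QQQ X ⋙ TL₃ X)).app Y) :=
    fun Y => by
      haveI : IsIso ((QQQ X).map ((NatTrans.prod (res₂ψ X) (resψ (X := X))).app Y)) :=
        (isIso_prod_iff _ _).2 ⟨(isIso_prod_iff _ _).2 ⟨isIso_Q_map _ (quasiIso_resψ Y.1.1),
          isIso_Q_map _ (quasiIso_resψ Y.1.2)⟩, isIso_Q_map _ (quasiIso_resψ Y.2)⟩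
      exact Functor.map_isIso (TL₃ X) _
  haveI := NatIso.isIso_of_isIso_app (whiskerRight (NatTrans.prod (res₂ψ X) (resψ (X := X))) (QQQ X ⋙ TL₃ X))
  haveI : ∀ Y, IsIso ((whiskerLeft (res₃ X) (εL X)).app Y) :=
    fun Y => isIso_εL _ _ _ (isKFlat_flip_res _) (isKFlat_res _)
  haveI := NatIso.isIso_of_isIso_app (whiskerLeft (res₃ X) (εL X))
  (asIso (whiskerRight (NatTrans.prod (res₂ψ X) (resψ (X := X))) (QQQ X ⋙ TL₃ X))).symm ≪≫
    asIso (whiskerLeft (res₃ X) (εL X))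

/-- `TR₃` on resolved triples. -/
noncomputable def isoR : QQQ X ⋙ TR₃ X ≅ res₃ X ⋙ PR X :=
  haveI : ∀ Y, IsIso ((whiskerRight (NatTrans.prod (res₂ψ X) (resψ (X := X))) (QQQ X ⋙ TR₃ X)).app Y) :=
    fun Y => by
      haveI : IsIso ((QQQ X).map ((NatTrans.prod (res₂ψ X) (resψ (X := X))).app Y)) :=
        (isIso_prod_iff _ _).2 ⟨(isIso_prod_iff _ _).2 ⟨isIso_Q_map _ (quasiIso_resψ Y.1.1),
          isIso_Q_map _ (quasiIso_resψ Y.1.2)⟩, isIso_Q_map _ (quasiIso_resψ Y.2)⟩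
      exact Functor.map_isIso (TR₃ X) _
  haveI := NatIso.isIso_of_isIso_app (whiskerRight (NatTrans.prod (res₂ψ X) (resψ (X := X))) (QQQ X ⋙ TR₃ X))
  haveI : ∀ Y, IsIso ((whiskerLeft (res₃ X) (εR X)).app Y) :=
    fun Y => isIso_εR _ _ _ (isKFlat_flip_res _) (isKFlat_flip_res _)
  haveI := NatIso.isIso_of_isIso_app (whiskerLeft (res₃ X) (εR X))
  (asIso (whiskerRight (NatTrans.prod (res₂ψ X) (resψ (X := X))) (QQQ X ⋙ TR₃ X))).symm ≪≫
    asIso (whiskerLeft (res₃ X) (εR X))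

variable (X) in
/-- The associator natural isomorphism. -/
noncomputable def assoc₃ : TL₃ X ≅ TR₃ X :=
  Localization.liftNatIso (QQQ X) (qis₃ X) (QQQ X ⋙ TL₃ X) (QQQ X ⋙ TR₃ X) _ _
    (isoL ≪≫ isoWhiskerLeft (res₃ X) assocP ≪≫ isoR.symm)

/-- `(a ⊗ b) ⊗ c ≅ a ⊗ (b ⊗ c)`. -/
noncomputable def α (a b c : DCoh.D X) :
    ((T X).obj (((T X).obj a).obj b)).obj c ≅ ((T X).obj a).obj (((T X).obj b).obj c) :=
  (assoc₃ X).app ((a, b), c)

lemma T_map_app {a a' : DCoh.D X} (f : a ⟶ a') (b : DCoh.D X) :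
    ((T X).map f).app b = (T₂ X).map (Prod.mkHom f (𝟙 b)) := rfl

lemma T_obj_map (a : DCoh.D X) {b b' : DCoh.D X} (g : b ⟶ b') :
    ((T X).obj a).map g = (T₂ X).map (Prod.mkHom (𝟙 a) g) := rfl

@[reassoc]
lemma α_naturality_left {a a' : DCoh.D X} (f : a ⟶ a') (b c : DCoh.D X) :
    ((T X).map (((T X).map f).app b)).app c ≫ (α a' b c).hom =
      (α a b c).hom ≫ ((T X).map f).app (((T X).obj b).obj c) := by
  refine Eq.trans ?_ (((assoc₃ X).hom.naturality (X := ((a, b), c)) (Y := ((a', b), c))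
    (Prod.mkHom (Prod.mkHom f (𝟙 b)) (𝟙 c))).trans ?_)
  · rfl
  · refine congrArg (_ ≫ ·) ?_
    show (T₂ X).map (Prod.mkHom f ((T₂ X).map (𝟙 (b, c)))) = _
    rw [CategoryTheory.Functor.map_id]
    rfl

@[reassoc]
lemma α_naturality_mid (a : DCoh.D X) {b b' : DCoh.D X} (g : b ⟶ b') (c : DCoh.D X) :
    ((T X).map (((T X).obj a).map g)).app c ≫ (α a b' c).hom =
      (α a b c).hom ≫ ((T X).obj a).map (((T X).map g).app c) :=
  (assoc₃ X).hom.naturality (X := ((a, b), c)) (Y := ((a, b'), c))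
    (Prod.mkHom (Prod.mkHom (𝟙 a) g) (𝟙 c))

@[reassoc]
lemma α_naturality_right (a b : DCoh.D X) {c c' : DCoh.D X} (h : c ⟶ c') :
    ((T X).obj (((T X).obj a).obj b)).map h ≫ (α a b c').hom =
      (α a b c).hom ≫ ((T X).obj a).map (((T X).obj b).map h) := by
  refine Eq.trans ?_ ((assoc₃ X).hom.naturality (X := ((a, b), c)) (Y := ((a, b), c'))
    (Prod.mkHom (𝟙 (a, b)) h))
  refine congrArg (· ≫ _) ?_
  show (T₂ X).map (Prod.mkHom (𝟙 _) h) = (T₂ X).map (Prod.mkHom ((T₂ X).map (𝟙 (a, b))) h)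
  rw [CategoryTheory.Functor.map_id]

end Groth.Agent.H16Derived.Dual
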