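import Groth.Agent.H16Derived.Dual.TotAdjoint
import Groth.Agent.H16Derived.KFlat.SheafTri
import Groth.Agent.H16Derived.DerAdj

/-!
# The derived tensor product as a bifunctor on `D(X)`
-/

set_option autoImplicit false
set_option linter.style.haveILetI false

universe u

open CategoryTheory CategoryTheory.Limits CategoryTheory.Functor AlgebraicGeometry Opposite

attribute [local instance] HasDerivedCategory.standard

namespace Groth.Agent.H16Derived.Dual

open Groth.Agent.H16Derived.KFlat Groth.Agent.H16Derived.KFlat.Stalk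

variable (X : Scheme.{u})

/-- Complexes of modules. -/
abbrev Cx : Type (u + 1) := CochainComplex X.Modules ℤ

/-- Pairs of quasi-isomorphisms. -/
abbrev qis₂ : MorphismProperty (Cx X × Cx X) :=
  (HomologicalComplex.quasiIso X.Modules (ComplexShape.up ℤ)).prod
    (HomologicalComplex.quasiIso X.Modules (ComplexShape.up ℤ))

/-- `Q × Q`. -/
noncomputable abbrev QQ : Cx X × Cx X ⥤ DCoh.D X × DCoh.D X := DerivedCategory.Q.prod DerivedCategory.Q

/-- `(K, L) ↦ K ⊗ L`, localized. -/
noncomputable abbrev tensor₂ : Cx X × Cx X ⥤ DCoh.D X :=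
  Functor.uncurry.obj (DCoh.tensorCx (X := X)) ⋙ DerivedCategory.Q

/-- The resolution of pairs. -/
noncomputable abbrev res₂ : Cx X × Cx X ⥤ Cx X × Cx X := (res (X := X)).prod (res (X := X))

/-- Its augmentation. -/
noncomputable abbrev res₂ψ : res₂ X ⟶ 𝟭 _ := NatTrans.prod (resψ (X := X)) (resψ (X := X))

variable {X}

lemma inverts_res₂ψ (Y : Cx X × Cx X) : qis₂ X ((res₂ψ X).app Y) :=
  ⟨quasiIso_resψ Y.1, quasiIso_resψ Y.2⟩

lemma tensor₂_inverts : (qis₂ X).IsInvertedBy (res₂ X ⋙ tensor₂ X) := by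
  rintro ⟨K, L⟩ ⟨K', L'⟩ ⟨f, g⟩ ⟨hf, hg⟩
  have : QuasiIso f := hf
  have : QuasiIso g := hg
  have := quasiIso_res_map f
  have := quasiIso_res_map g
  refine isIso_Q_map _ (quasiIso_comp
    (hφ := quasiIso_left_map (DCoh.tensorBi (X := X)) ((res (X := X)).map f) (isKFlat_res L))
    (hφ' := quasiIso_tot_map_of_isKFlat_left (DCoh.tensorBi (X := X)) ((res (X := X)).obj K')
      ((res (X := X)).map g) fun W hW => acyclic_tot_of_isKFlat_flip (isKFlat_flip_res K') hW)
    _ _)

lemma tensor₂_res₂ψ (K L : Cx X)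
    (h : IsKFlat (DCoh.tensorBi (X := X)).flip K ∨ IsKFlat (DCoh.tensorBi (X := X)) L) :
    IsIso ((tensor₂ X).map ((res₂ψ X).app (K, L))) := by
  have := quasiIso_resψ K
  have := quasiIso_resψ L
  rcases h with h | h
  · exact isIso_Q_map _ (quasiIso_comp
      (hφ := quasiIso_tensor_map ((resψ (X := X)).app K) (isKFlat_flip_res K) h _)
      (hφ' := quasiIso_tot_map_of_isKFlat_left (DCoh.tensorBi (X := X)) K
        ((resψ (X := X)).app L) fun W hW => acyclic_tot_of_isKFlat_flip h hW) _ _)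
  · refine isIso_Q_map _ (quasiIso_comp
      (hφ := quasiIso_left_map (DCoh.tensorBi (X := X)) ((resψ (X := X)).app K) (isKFlat_res L))
      (hφ' := quasiIso_tot_map_of_resolution (DCoh.tensorBi (X := X)) ((resψ (X := X)).app L)
        (isKFlat_res L) h ((resψ (X := X)).app K) (isKFlat_flip_res K)) _ _)

lemma tensor₂_res₂ψ_res₂ (Y : Cx X × Cx X) :
    IsIso ((tensor₂ X).map ((res₂ψ X).app ((res₂ X).obj Y))) :=
  tensor₂_res₂ψ _ _ (Or.inr (isKFlat_res _))

variable (X)

instance hasLTen₂ : (tensor₂ X).HasLeftDerivedFunctor (qis₂ X) :=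
  LeftDer.hasLeftDerivedFunctor _ inverts_res₂ψ tensor₂_inverts tensor₂_res₂ψ_res₂

/-- The derived tensor product on pairs. -/
noncomputable def T₂ : DCoh.D X × DCoh.D X ⥤ DCoh.D X :=
  (tensor₂ X).totalLeftDerived (QQ X) (qis₂ X)

/-- Its counit. -/
noncomputable def ε : QQ X ⋙ T₂ X ⟶ tensor₂ X :=
  (tensor₂ X).totalLeftDerivedCounit (QQ X) (qis₂ X)

instance : (T₂ X).IsLeftDerivedFunctor (ε X) (qis₂ X) :=
  inferInstanceAs (((tensor₂ X).totalLeftDerived (QQ X) (qis₂ X)).IsLeftDerivedFunctor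
    ((tensor₂ X).totalLeftDerivedCounit (QQ X) (qis₂ X)) (qis₂ X))

/-- The derived tensor product, curried: `(T m).obj k = m ⊗^L k`. -/
noncomputable def T : DCoh.D X ⥤ DCoh.D X ⥤ DCoh.D X := Functor.curry.obj (T₂ X)

variable {X}

theorem isIso_ε (K L : Cx X)
    (h : IsKFlat (DCoh.tensorBi (X := X)).flip K ∨ IsKFlat (DCoh.tensorBi (X := X)) L) :
    IsIso ((ε X).app (K, L)) :=
  LeftDer.isIso_counit (qis₂ X) (QQ X) inverts_res₂ψ tensor₂_inverts tensor₂_res₂ψ_res₂
    (T₂ X) (ε X) (K, L) (tensor₂_res₂ψ K L h)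

/-- The counit in the first variable. -/
noncomputable def εFst (E : Cx X) :
    DerivedCategory.Q ⋙ (T X).flip.obj (DerivedCategory.Q.obj E) ⟶ DCoh.tensorCxQ E where
  app K := (ε X).app (K, E)
  naturality K K' f := by
    refine Eq.trans ?_ (((ε X).naturality (Prod.mkHom f (𝟙 E))).trans ?_)
    · refine congrArg (· ≫ _) ?_
      exact congrArg (fun z => (T₂ X).map z)
        (Prod.ext rfl (DerivedCategory.Q.map_id E).symm)
    · refine congrArg (_ ≫ DerivedCategory.Q.map ·) ?_
      show (DCoh.tensorCx.map f).app E ≫ (DCoh.tensorCx.obj K').map (𝟙 E) =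
        (DCoh.tensorCx.map f).app E
      rw [CategoryTheory.Functor.map_id, Category.comp_id]

/-- The counit in the second variable. -/
noncomputable def εSnd (K : Cx X) :
    DerivedCategory.Q ⋙ (T X).obj (DerivedCategory.Q.obj K) ⟶
      (DCoh.tensorCx (X := X)).obj K ⋙ DerivedCategory.Q where
  app L := (ε X).app (K, L)
  naturality L L' g := by
    refine Eq.trans ?_ (((ε X).naturality (Prod.mkHom (𝟙 K) g)).trans ?_)
    · refine congrArg (· ≫ _) ?_
      exact congrArg (fun z => (T₂ X).map z)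
        (Prod.ext (DerivedCategory.Q.map_id K).symm rfl)
    · refine congrArg (_ ≫ DerivedCategory.Q.map ·) ?_
      show (DCoh.tensorCx.map (𝟙 K)).app L ≫ (DCoh.tensorCx.obj K).map g =
        (DCoh.tensorCx.obj K).map g
      rw [CategoryTheory.Functor.map_id, NatTrans.id_app, Category.id_comp]

/-- `m ⊗^L -` on a resolved `m`. -/
noncomputable def TObjIso (K : Cx X) (hK : IsKFlat (DCoh.tensorBi (X := X)).flip K) :
    DerivedCategory.Q ⋙ (T X).obj (DerivedCategory.Q.obj K) ≅
      tot (DCoh.tensorBi (X := X)) K ⋙ DerivedCategory.Q :=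
  haveI : ∀ L, IsIso ((εSnd K).app L) := fun L => isIso_ε K L (Or.inl hK)
  haveI := NatIso.isIso_of_isIso_app (εSnd K)
  asIso (εSnd K)

/-- `- ⊗^L k` on a resolved `k`. -/
noncomputable def TFlipIso (E : Cx X) (hE : IsKFlat (DCoh.tensorBi (X := X)) E) :
    DerivedCategory.Q ⋙ (T X).flip.obj (DerivedCategory.Q.obj E) ≅
      tot (DCoh.tensorBi (X := X)).flip E ⋙ DerivedCategory.Q :=
  haveI : ∀ L, IsIso ((εFst E).app L) := fun L => isIso_ε L E (Or.inr hE)
  haveI := NatIso.isIso_of_isIso_app (εFst E)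
  asIso (εFst E) ≪≫ isoWhiskerRight (tensorCxFlipIso E).symm DerivedCategory.Q

/-- Every object has a resolved representative. -/
theorem exists_rep (k : DCoh.D X) : ∃ E : Cx X, IsKFlat (DCoh.tensorBi (X := X)) E ∧
    IsKFlat (DCoh.tensorBi (X := X)).flip E ∧ Nonempty (DerivedCategory.Q.obj E ≅ k) := by
  let G := DerivedCategory.Q.objPreimage k
  haveI := isIso_Q_map ((resψ (X := X)).app G) (quasiIso_resψ G)
  exact ⟨_, isKFlat_res G, isKFlat_flip_res G,
    ⟨asIso (DerivedCategory.Q.map ((resψ (X := X)).app G)) ≪≫ DerivedCategory.Q.objObjPreimageIso k⟩⟩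

lemma acyclic_tot_flip {E : Cx X} (hE : IsKFlat (DCoh.tensorBi (X := X)) E) (W : Cx X)
    (hW : W.Acyclic) : ((tot (DCoh.tensorBi (X := X)).flip E).obj W).Acyclic :=
  acyclic_of_iso (totFlipIso W E).symm (hE W hW)

instance (a : X.Modules) : PreservesColimitsOfSize.{u, u} ((DCoh.tensorBi (X := X)).flip.obj a) :=
  preservesColimits_tensorBi_flip_obj a

/-- `m ⊗^L -` is a left adjoint. -/
instance isLeftAdjoint_TObj (m : DCoh.D X) : ((T X).obj m).IsLeftAdjoint := by
  obtain ⟨M, -, hM, ⟨e⟩⟩ := exists_rep m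
  haveI := isLeftAdjoint_derived (DCoh.tensorBi (X := X)) M
    (fun W hW => acyclic_tot_of_isKFlat_flip hM hW) (TObjIso M hM)
  exact Functor.isLeftAdjoint_of_iso ((T X).mapIso e)

/-- `- ⊗^L k` is a left adjoint. -/
instance isLeftAdjoint_TFlip (k : DCoh.D X) : ((T X).flip.obj k).IsLeftAdjoint := by
  obtain ⟨E, hE, -, ⟨e⟩⟩ := exists_rep k
  haveI := isLeftAdjoint_derived (DCoh.tensorBi (X := X)).flip E (acyclic_tot_flip hE) (TFlipIso E hE)
  exact Functor.isLeftAdjoint_of_iso ((T X).flip.mapIso e)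

/-- `LTensorCx E` is `- ⊗^L Q E`. -/
noncomputable def ltensorCxIsoT (E : Cx X) [DCoh.HasLTensorCx E] :
    (T X).flip.obj (DerivedCategory.Q.obj E) ≅ DCoh.LTensorCx E :=
  let c := (DCoh.tensorCxQ E).totalLeftDerivedCounit DerivedCategory.Q
    (HomologicalComplex.quasiIso X.Modules (ComplexShape.up ℤ))
  let l := (DCoh.LTensorCx E).leftDerivedLift c
    (HomologicalComplex.quasiIso X.Modules (ComplexShape.up ℤ)) _ (εFst E)
  haveI : ∀ Y : DCoh.D X, IsIso (l.app Y) := fun Y => by
    let P := DerivedCategory.Q.objPreimage Y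
    have hl : whiskerLeft DerivedCategory.Q l ≫ c = εFst E := Functor.leftDerived_fac _ _ _ _ _
    have hi : IsIso (l.app (DerivedCategory.Q.obj ((res (X := X)).obj P))) := by
      haveI : IsIso ((εFst E).app ((res (X := X)).obj P)) :=
        isIso_ε _ E (Or.inl (isKFlat_flip_res P))
      haveI : IsIso (c.app ((res (X := X)).obj P)) :=
        isIso_LTensorCx_counit E _ (isKFlat_flip_res P)
      exact IsIso.of_isIso_fac_right (congr_app hl ((res (X := X)).obj P))
    haveI := isIso_Q_map ((resψ (X := X)).app P) (quasiIso_resψ P)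
    exact (NatTrans.isIso_app_iff_of_iso l
      (asIso (DerivedCategory.Q.map ((resψ (X := X)).app P)) ≪≫
        DerivedCategory.Q.objObjPreimageIso Y)).1 hi
  haveI := NatIso.isIso_of_isIso_app l
  asIso l

end Groth.Agent.H16Derived.Dual
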