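import Groth.Agent.H16Derived.Dual.PseudoQCoh
import Groth.Agent.H16Derived.KFlat.PerfNoeth
import Groth.Agent.H10Coh.FinType2

/-!
# `RHom(k, L)` with coherent cohomology
-/

set_option autoImplicit false
set_option linter.style.haveILetI false

universe u

open CategoryTheory CategoryTheory.Limits CategoryTheory.Pretriangulated AlgebraicGeometry
open DerivedCategory.TStructure (t)

attribute [local instance] HasDerivedCategory.standard

namespace Groth.Agent.H16Derived.Dual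

open Groth.Agent.H16Derived.KFlat Groth.Agent.H16Derived.KFlat.Stalk Groth.Agent.H16Derived.QCohD

variable {X : Scheme.{u}}

theorem isCohD_iso {K K' : DCoh.D X} (e : K ≅ K') (h : DCoh.IsCohD K) : DCoh.IsCohD K' := fun i =>
  H10Coh.isCoh_of_iso ((DerivedCategory.homologyFunctor _ i).mapIso e) (h i)

theorem isCohD_shift {L : DCoh.D X} (h : DCoh.IsCohD L) (n : ℤ) : DCoh.IsCohD (L⟦n⟧) := fun i =>
  H10Coh.isCoh_of_iso (((DerivedCategory.homologyFunctor X.Modules 0).shiftIso n i (n + i) rfl).app L).symm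
    (h (n + i))

theorem isCohD_rd (A : X.Opens) {L : DCoh.D X} (h : DCoh.IsCohD L) : DCoh.IsCohD ((rA A).obj L) :=
  fun i => H10Coh.isCoh_of_iso (homologyRdIso A.ι L i).symm (H10Coh.isCoh_restrict A.ι _ (h i))

theorem isCoh_isZero [IsLocallyNoetherian X] {M : X.Modules} (h : IsZero M) : Coh.IsCoh M :=
  isCoh_of_isFinLocFree (isFinLocFree_of_isZero h)

/-- Coherence of the middle term of a distinguished triangle. -/
theorem isCohD_obj₂ [IsLocallyNoetherian X] {T : Triangle (DCoh.D X)} (hT : T ∈ distTriang (DCoh.D X))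
    (h₁ : DCoh.IsCohD T.obj₁) (h₃ : DCoh.IsCohD T.obj₃) : DCoh.IsCohD T.obj₂ := fun m => by
  let H := fun i => DerivedCategory.homologyFunctor X.Modules i
  have hq : Coh.IsQCoh ((H m).obj T.obj₂) :=
    isQCoh_middle hT m (h₃ (m - 1)).1 (h₁ m).1 (h₃ m).1 (h₁ (m + 1)).1
  haveI : ((H m).obj T.obj₂).IsQuasicoherent := hq
  haveI : ((H m).obj T.obj₃).IsQuasicoherent := (h₃ m).1
  let f := (H m).map T.mor₁
  let g := (H m).map T.mor₂
  have hw : f ≫ g = 0 := by
    rw [← Functor.map_comp, comp_distTriang_mor_zero₁₂ T hT, Functor.map_zero]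
  have he := DerivedCategory.HomologySequence.exact₂ T hT m
  let l : (H m).obj T.obj₁ ⟶ kernel g := kernel.lift g f hw
  haveI : Epi l := ShortComplex.Exact.epi_kernelLift he
  have hk : Coh.IsCoh (kernel g) := by
    have hkq : Coh.IsQCoh (kernel g) := H10Coh.isQuasicoherent_kernel g
    exact ⟨hkq, KFlat.Stalk.isFT_of_epi l (h₁ m).2⟩
  have hi : Coh.IsCoh (Abelian.image g) :=
    H10Coh.isCoh_kernel (cokernel.π g) (h₃ m) (H10Coh.isQuasicoherent_cokernel g)
  have hw' : kernel.ι g ≫ Abelian.factorThruImage g = 0 := by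
    rw [← cancel_mono (Abelian.image.ι g), Category.assoc, kernel.lift_ι, zero_comp, kernel.condition]
  let S := ShortComplex.mk (kernel.ι g) (Abelian.factorThruImage g) hw'
  let ψ : S ⟶ ShortComplex.mk (kernel.ι g) g (kernel.condition g) :=
    { τ₁ := 𝟙 _, τ₂ := 𝟙 _, τ₃ := Abelian.image.ι g, comm₂₃ := by simp [S] }
  haveI : Epi ψ.τ₁ := inferInstanceAs (Epi (𝟙 _))
  haveI : IsIso ψ.τ₂ := inferInstanceAs (IsIso (𝟙 _))
  haveI : Mono ψ.τ₃ := inferInstanceAs (Mono (Abelian.image.ι g))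
  have hS : S.ShortExact :=
    { exact := (ShortComplex.exact_iff_of_epi_of_isIso_of_mono ψ).2
        (ShortComplex.exact_of_f_is_kernel _ (kernelIsKernel g)) }
  exact H10Coh.isCoh_X₂ hS hk hi hq

/-- `L ⊗^L r[n]` has coherent cohomology over `A`. -/
def QTc (A : X.Opens) (L r : DCoh.D X) : Prop :=
  ∀ n : ℤ, DCoh.IsCohD ((rA A).obj (((T X).obj L).obj (r⟦n⟧)))

theorem invOn_qtc (A : X.Opens) (L : DCoh.D X) : InvOn A (QTc A L) := fun {k k'} φ h =>
  forall_congr' fun n => by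
    haveI : IsIso ((rA A).map (((T X).obj L).map (φ⟦n⟧'))) := isoOn_TObj L (h.shift n)
    exact ⟨fun hp => isCohD_iso (asIso ((rA A).map (((T X).obj L).map (φ⟦n⟧')))).symm hp,
      fun hp => isCohD_iso (asIso ((rA A).map (((T X).obj L).map (φ⟦n⟧')))) hp⟩

theorem stable_qtc [IsLocallyNoetherian X] (A : X.Opens) (L : DCoh.D X) : Stable (X := X) (QTc A L) where
  of_iso e h := (invOn_qtc A L e.inv (isoOn_of_isIso A _)).1 h
  shift {K} h n p :=
    isCohD_iso ((rA A).mapIso (((T X).obj L).mapIso ((shiftFunctorAdd (DCoh.D X) n p).app K))) (h (n + p))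
  ext₂ T₀ hT h₁ h₃ n := by
    obtain ⟨T', hT', ⟨e₁⟩, ⟨e₂⟩, ⟨e₃⟩⟩ := exists_triangle_TObj L (Triangle.shift_distinguished _ hT n)
    have hd := (rA A).map_distinguished _ hT'
    exact isCohD_iso ((rA A).mapIso e₂) (isCohD_obj₂ hd (isCohD_iso ((rA A).mapIso e₁).symm (h₁ n))
      (isCohD_iso ((rA A).mapIso e₃).symm (h₃ n)))
  of_isZero hK n := fun i => isCoh_isZero (Functor.map_isZero _
    (Functor.map_isZero _ (Functor.map_isZero _ (Functor.map_isZero _ hK))))

theorem nonempty_TObj_o (L : DCoh.D X) (n : ℤ) : Nonempty (((T X).obj L).obj (o X n) ≅ L⟦n⟧) := by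
  let M := DerivedCategory.Q.objPreimage L
  let eM : DerivedCategory.Q.obj M ≅ L := DerivedCategory.Q.objObjPreimageIso L
  haveI := isIso_ε M (S X n) (Or.inr (isKFlat_S X n))
  exact ⟨((T X).mapIso eM.symm).app _ ≪≫ @asIso _ _ _ _ ((ε X).app (M, S X n)) this ≪≫
    DerivedCategory.Q.mapIso
      (CochainComplex.mapBifunctorShift₂Iso M (S₀ X) (DCoh.tensorBi (X := X)) n ≪≫
        (shiftFunctor (Cx X) n).mapIso ((tensorS₀Iso X).app M)) ≪≫
    (DerivedCategory.Q.commShiftIso n).app M ≪≫ (shiftFunctor (DCoh.D X) n).mapIso eM⟩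

theorem qtc_o (A : X.Opens) {L : DCoh.D X} (hL : DCoh.IsCohD L) (p : ℤ) : QTc A L (o X p) := fun n => by
  obtain ⟨e⟩ := nonempty_TObj_o L (p + n)
  exact isCohD_iso ((rA A).mapIso (((T X).obj L).mapIso (oShiftIso p n).symm))
    (isCohD_rd A (isCohD_iso e.symm (isCohD_shift hL (p + n))))

/-- `RHom(k, L)` has coherent cohomology. -/
theorem isCohD_R [IsLocallyNoetherian X] {k : DCoh.D X} (hk : ∀ m : ℤ, DCoh.IsPseudoCoherentD m k)
    {L : DCoh.D X} (hL : DCoh.IsCohD L) (a : ℤ) [L.IsGE a] : DCoh.IsCohD ((R k).obj L) := fun i => by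
  refine ⟨isQCohD_R hk (fun j => (hL j).1) a i, isFT_of_local fun x => ?_⟩
  obtain ⟨A, r, hxA, hA, ⟨e⟩⟩ := exists_local_R hk L a i x
  refine ⟨_, A.ι, inferInstance, ⟨⟨x, hxA⟩, rfl⟩, ?_⟩
  exact (H10Coh.isCoh_of_iso (((DerivedCategory.homologyFunctor _ i).mapIso ((rA A).mapIso (((T X).obj L).mapIso
      ((shiftFunctorZero (DCoh.D X) ℤ).app r)))) ≪≫ e)
    (freeModel_induction (stable_qtc A L) (invOn_qtc A L) (qtc_o A hL) hA 0 i)).2

/-- Bounded above objects with coherent cohomology are pseudo-coherent. -/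
theorem isPseudoCoherentD_of_isCohD [IsLocallyNoetherian X] {k : DCoh.D X} (b : ℤ) [k.IsLE b]
    (hk : DCoh.IsCohD k) (m : ℤ) : DCoh.IsPseudoCoherentD m k :=
  isPseudoCoherentD_of_homology m (b - (m - 1)).toNat
    ((DerivedCategory.isLE_iff _ _).2 fun i hi => DerivedCategory.isZero_of_isLE k b i (by omega))
    fun i _ n => isPseudoCoherentD_inD_of_isCoh' (hk i) n

/-- `RHom(k, L)` is bounded below when `k` is bounded above and `L` bounded below. -/
theorem isGE_R {k : DCoh.D X} (b : ℤ) [k.IsLE b] (L : DCoh.D X) (a : ℤ) [L.IsGE a] :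
    ((R k).obj L).IsGE (a - b) := by
  refine (t.isGE_iff_orthogonal (a - b - 1) (a - b) (by omega) _).2 fun H f hH => ?_
  let K := DerivedCategory.Q.objPreimage k
  let eK : DCoh.toD X K ≅ k := DerivedCategory.Q.objObjPreimageIso k
  haveI := hasLTensorCx K
  haveI : (DCoh.toD X K).IsLE b := ⟨(t.le _).prop_of_iso eK.symm (‹k.IsLE b›).le⟩
  haveI : DerivedCategory.IsLE H (a - b - 1) := hH
  haveI := Thomason.isLE_ltensorCx K b (C := H) (a - b - 1)
  let e : (DCoh.LTensorCx K).obj H ≅ ((T X).obj H).obj k :=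
    ((ltensorCxIsoT K).app H).symm ≪≫ ((T X).obj H).mapIso eK
  refine ((adjR k).homEquiv _ _).symm.injective ((cancel_epi e.hom).1 ?_)
  exact (t.zero _ (a - b - 1 + b) a (by omega)).trans (t.zero _ (a - b - 1 + b) a (by omega)).symm

end Groth.Agent.H16Derived.Dual
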