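import Groth.Agent.H16Derived.Dual.Assoc
import Groth.Agent.H16Derived.KFlat.Single
import Groth.Agent.H16Derived.ProjFormula.Map
import Mathlib.Algebra.Homology.BifunctorShift

/-!
# The unit of the derived tensor product and its shifts
-/

set_option autoImplicit false
set_option linter.style.haveILetI false

universe u

open CategoryTheory CategoryTheory.Limits CategoryTheory.Functor AlgebraicGeometry

attribute [local instance] HasDerivedCategory.standard

namespace Groth.Agent.H16Derived.Dual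

open Groth.Agent.H16Derived.KFlat Groth.Agent.H16Derived.KFlat.Stalk

variable (X : Scheme.{u})

/-- `O[0]` as a complex. -/
noncomputable abbrev S₀ : Cx X :=
  (CochainComplex.singleFunctor X.Modules 0).obj (Coh.structureModule X)

lemma isZero_S₀ (p : ℤ) (hp : p ≠ 0) : IsZero ((S₀ X).X p) :=
  HomologicalComplex.isZero_single_obj_X _ _ _ _ hp

/-- `O[0]` in degree zero. -/
noncomputable def S₀Iso : (S₀ X).X 0 ≅ Coh.structureModule X :=
  HomologicalComplex.singleObjXSelf (ComplexShape.up ℤ) 0 _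

/-- `- ⊗ O[0] = 𝟭` on complexes. -/
noncomputable def tensorS₀Iso : (DCoh.tensorCx (X := X)).flip.obj (S₀ X) ≅ 𝟭 (Cx X) :=
  (tensorCxFlipIso (S₀ X)).symm ≪≫
  (NatIso.ofComponents (fun W => singleLeftIso (DCoh.tensorBi (X := X)).flip (S₀ X) W (isZero_S₀ X))
    (fun {W W'} f => by
      refine HomologicalComplex.hom_ext _ _ fun n => ?_
      exact (ι_tot_map (F := (DCoh.tensorBi (X := X)).flip) (S₀ X) f 0 n n (zero_add n)).symm)).symm ≪≫
  NatIso.mapHomologicalComplex ((DCoh.tensorBi (X := X)).flip.mapIso (S₀Iso X) ≪≫ ProjFormula.ρ X)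
    (ComplexShape.up ℤ) ≪≫
  Functor.mapHomologicalComplexIdIso X.Modules (ComplexShape.up ℤ)

/-- `O[0]` is K-flat. -/
theorem isKFlat_S₀ : IsKFlat (DCoh.tensorBi (X := X)) (S₀ X) := fun L hL =>
  acyclic_of_iso ((tensorS₀Iso X).app L).symm hL

/-- The shifts of `O[0]`. -/
noncomputable abbrev S (n : ℤ) : Cx X := (S₀ X)⟦n⟧

theorem isKFlat_S (n : ℤ) : IsKFlat (DCoh.tensorBi (X := X)) (S X n) := (isKFlat_S₀ X).shift n

/-- `O[n]` in `D(X)`. -/
noncomputable abbrev o (n : ℤ) : DCoh.D X := DerivedCategory.Q.obj (S X n)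

/-- The unit object. -/
noncomputable abbrev one : DCoh.D X := DerivedCategory.Q.obj (S₀ X)

/-- `- ⊗^L O = 𝟭`. -/
noncomputable def rightUnit : (T X).flip.obj (one X) ≅ 𝟭 (DCoh.D X) :=
  haveI : ∀ L, IsIso ((εFst (S₀ X)).app L) := fun L => isIso_ε L _ (Or.inr (isKFlat_S₀ X))
  haveI := NatIso.isIso_of_isIso_app (εFst (S₀ X))
  Localization.liftNatIso DerivedCategory.Q (HomologicalComplex.quasiIso X.Modules (ComplexShape.up ℤ))
    (DerivedCategory.Q ⋙ (T X).flip.obj (one X)) DerivedCategory.Q _ _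
    (asIso (εFst (S₀ X)) ≪≫ isoWhiskerRight (tensorS₀Iso X) DerivedCategory.Q ≪≫ Functor.leftUnitor _)

/-- `O[a] ⊗^L O[b] = O` for `a + b = 0`. -/
theorem nonempty_o_tensor_o (a b : ℤ) (h : a + b = 0) :
    Nonempty (((T X).obj (o X a)).obj (o X b) ≅ one X) := by
  haveI := isIso_ε (S X a) (S X b) (Or.inr (isKFlat_S X b))
  exact ⟨@asIso _ _ _ _ ((ε X).app (S X a, S X b)) this ≪≫
    DerivedCategory.Q.mapIso
      (CochainComplex.mapBifunctorShift₂Iso (S X a) (S₀ X) (DCoh.tensorBi (X := X)) b ≪≫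
        (shiftFunctor (Cx X) b).mapIso ((tensorS₀Iso X).app (S X a)) ≪≫
        (shiftFunctorCompIsoId (Cx X) a b h).app (S₀ X))⟩

variable {X}

/-- `(- ⊗ a) ⊗ b = - ⊗ (a ⊗ b)`. -/
noncomputable def flipAssoc (a b : DCoh.D X) :
    (T X).flip.obj a ⋙ (T X).flip.obj b ≅ (T X).flip.obj (((T X).obj a).obj b) :=
  NatIso.ofComponents (fun m => α m a b) (fun f => α_naturality_left f a b)

/-- `- ⊗^L O[n]` is an equivalence. -/
instance isEquivalence_TFlip_o (n : ℤ) : ((T X).flip.obj (o X n)).IsEquivalence := by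
  let e : ∀ a b : ℤ, a + b = 0 →
      ((T X).flip.obj (o X a) ⋙ (T X).flip.obj (o X b) ≅ 𝟭 (DCoh.D X)) := fun a b h =>
    flipAssoc _ _ ≪≫ (T X).flip.mapIso (nonempty_o_tensor_o X a b h).some ≪≫ rightUnit X
  exact (CategoryTheory.Equivalence.mk ((T X).flip.obj (o X n)) ((T X).flip.obj (o X (-n)))
    (e n (-n) (by omega)).symm (e (-n) n (by omega))).isEquivalence_functor

end Groth.Agent.H16Derived.Dual
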