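import Groth.Agent.H16Derived.Dual.Local
import Groth.Agent.H16Derived.KFlat.PerfTri
import Groth.Agent.H25DTen.Dev
import Mathlib.CategoryTheory.Preadditive.Yoneda.Basic

/-!
# The pairing `m ⊗^L RHom(k, O) ⟶ RHom(k, m)`
-/

set_option autoImplicit false
set_option linter.style.haveILetI false

universe u

open CategoryTheory CategoryTheory.Limits CategoryTheory.Functor AlgebraicGeometry Pretriangulated Opposite

attribute [local instance] HasDerivedCategory.standard

namespace Groth.Agent.H16Derived.Dual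

open Groth.Agent.H16Derived.QCohD Groth.Agent.H25DTen

variable {X : Scheme.{u}}

/-- `RHom(k, -)`. -/
noncomputable abbrev R (k : DCoh.D X) : DCoh.D X ⥤ DCoh.D X := ((T X).flip.obj k).rightAdjoint

/-- `- ⊗^L k ⊣ RHom(k, -)`. -/
noncomputable abbrev adjR (k : DCoh.D X) : (T X).flip.obj k ⊣ R k := Adjunction.ofIsLeftAdjoint _

/-- The dual. -/
noncomputable abbrev ro (k : DCoh.D X) : DCoh.D X := (R k).obj (one X)

/-- Evaluation. -/
noncomputable def ev (k : DCoh.D X) : ((T X).obj (ro k)).obj k ⟶ one X := (adjR k).counit.app (one X)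

instance (m : DCoh.D X) : ((T X).obj m).Additive :=
  haveI := preservesBinaryBiproducts_of_preservesBinaryCoproducts ((T X).obj m)
  Functor.additive_of_preservesBinaryBiproducts _

instance (k : DCoh.D X) : ((T X).flip.obj k).Additive :=
  haveI := preservesBinaryBiproducts_of_preservesBinaryCoproducts ((T X).flip.obj k)
  Functor.additive_of_preservesBinaryBiproducts _

/-- Contravariance of the dual. -/
noncomputable def rmap {k k' : DCoh.D X} (φ : k ⟶ k') : ro k' ⟶ ro k :=
  (adjR k).homEquiv (ro k') (one X) (((T X).obj (ro k')).map φ ≫ ev k')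

@[reassoc]
lemma rmap_ev {k k' : DCoh.D X} (φ : k ⟶ k') :
    ((T X).map (rmap φ)).app k ≫ ev k = ((T X).obj (ro k')).map φ ≫ ev k' :=
  ((adjR k).homEquiv_counit _ _ _).symm.trans (((adjR k).homEquiv _ _).symm_apply_apply _)

lemma comp_rmap {Y : DCoh.D X} {k k' : DCoh.D X} (φ : k ⟶ k') (x : Y ⟶ ro k') :
    ((T X).map (x ≫ rmap φ)).app k ≫ ev k =
      ((T X).obj Y).map φ ≫ ((T X).map x).app k' ≫ ev k' := by
  rw [Functor.map_comp, NatTrans.comp_app, Category.assoc, rmap_ev, NatTrans.naturality_assoc]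

lemma ev_injective {Y k : DCoh.D X} {x y : Y ⟶ ro k}
    (h : ((T X).map x).app k ≫ ev k = ((T X).map y).app k ≫ ev k) : x = y :=
  ((adjR k).homEquiv _ _).symm.injective
    (((adjR k).homEquiv_counit _ _ _).trans (h.trans ((adjR k).homEquiv_counit _ _ _).symm))

lemma ev_surjective {Y k : DCoh.D X} (z : ((T X).obj Y).obj k ⟶ one X) :
    ∃ x : Y ⟶ ro k, ((T X).map x).app k ≫ ev k = z :=
  ⟨(adjR k).homEquiv _ _ z,
    ((adjR k).homEquiv_counit _ _ _).symm.trans (((adjR k).homEquiv _ _).symm_apply_apply _)⟩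

lemma rmap_comp {k k' k'' : DCoh.D X} (φ : k ⟶ k') (ψ : k' ⟶ k'') :
    rmap (φ ≫ ψ) = rmap ψ ≫ rmap φ := by
  apply ev_injective
  rw [comp_rmap, rmap_ev, rmap_ev, Functor.map_comp, Category.assoc]

lemma rmap_id (k : DCoh.D X) : rmap (𝟙 k) = 𝟙 (ro k) := by
  apply ev_injective
  rw [rmap_ev, CategoryTheory.Functor.map_id, CategoryTheory.Functor.map_id, NatTrans.id_app]

lemma rmap_zero (k k' : DCoh.D X) : rmap (0 : k ⟶ k') = 0 := by
  apply ev_injective
  rw [rmap_ev, Functor.map_zero, zero_comp]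
  exact (((congrArg (· ≫ ev k) (((T X).flip.obj k).map_zero (ro k') (ro k))).trans zero_comp)).symm

lemma isZero_ro {k : DCoh.D X} (hk : IsZero k) : IsZero (ro k) := by
  rw [IsZero.iff_id_eq_zero, ← rmap_id, hk.eq_of_src (𝟙 k) 0, rmap_zero]

/-- `(m ⊗ RHom(k,O)) ⊗ k ⟶ m`. -/
noncomputable def αc (k m : DCoh.D X) : ((T X).obj (((T X).obj m).obj (ro k))).obj k ⟶ m :=
  (α m (ro k) k).hom ≫ ((T X).obj m).map (ev k) ≫ (rightUnit X).hom.app m

/-- `m ⊗ RHom(k, O) ⟶ RHom(k, m)`. -/
noncomputable def θ (k m : DCoh.D X) : ((T X).obj m).obj (ro k) ⟶ (R k).obj m :=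
  (adjR k).homEquiv _ _ (αc k m)

/-- `Hom(g, m ⊗ RHom(k, O)) ⟶ Hom(g ⊗ k, m)`. -/
noncomputable def th (g m k : DCoh.D X) :
    (g ⟶ ((T X).obj m).obj (ro k)) →+ (((T X).obj g).obj k ⟶ m) :=
  AddMonoidHom.mk' (fun x => ((T X).map x).app k ≫ αc k m) fun x y => by
    change ((T X).flip.obj k).map (x + y) ≫ _ = _
    rw [Functor.map_add]
    exact Preadditive.add_comp _ _ _ _ _ _

lemma th_eq (g m k : DCoh.D X) (x : g ⟶ ((T X).obj m).obj (ro k)) :
    th g m k x = ((adjR k).homEquiv _ _).symm (x ≫ θ k m) := by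
  rw [θ, ← Adjunction.homEquiv_naturality_left, Equiv.symm_apply_apply]
  rfl

lemma th_naturality (g m : DCoh.D X) {k k' : DCoh.D X} (φ : k ⟶ k')
    (x : g ⟶ ((T X).obj m).obj (ro k')) :
    th g m k (x ≫ ((T X).obj m).map (rmap φ)) = ((T X).obj g).map φ ≫ th g m k' x := by
  show ((T X).map (x ≫ ((T X).obj m).map (rmap φ))).app k ≫ αc k m = _ ≫ ((T X).map x).app k' ≫ αc k' m
  rw [Functor.map_comp, NatTrans.comp_app, Category.assoc, NatTrans.naturality_assoc]
  refine congrArg (_ ≫ ·) ?_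
  simp only [αc]
  rw [α_naturality_mid_assoc, α_naturality_right_assoc, ← Functor.map_comp_assoc,
    ← Functor.map_comp_assoc, rmap_ev]

variable (g m : DCoh.D X)

/-- `k ↦ Hom(g, m ⊗ RHom(k, O))`. -/
noncomputable def srcF : (DCoh.D X)ᵒᵖ ⥤ AddCommGrpCat.{u + 1} where
  obj k := AddCommGrpCat.of (g ⟶ ((T X).obj m).obj (ro k.unop))
  map φ := AddCommGrpCat.ofHom
    (Preadditive.rightComp g (((T X).obj m).map (rmap φ.unop)))
  map_id k := by
    ext x
    change x ≫ ((T X).obj m).map (rmap (𝟙 k.unop)) = x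
    rw [rmap_id, CategoryTheory.Functor.map_id, Category.comp_id]
  map_comp φ ψ := by
    ext x
    change x ≫ ((T X).obj m).map (rmap (ψ.unop ≫ φ.unop)) = (x ≫ _) ≫ _
    rw [rmap_comp, Functor.map_comp, Category.assoc]

/-- `k ↦ Hom(g ⊗ k, m)`. -/
noncomputable def tgtF : (DCoh.D X)ᵒᵖ ⥤ AddCommGrpCat.{u + 1} :=
  ((T X).obj g).op ⋙ preadditiveYoneda.obj m

/-- The natural transformation. -/
noncomputable def thNat : srcF g m ⟶ tgtF g m where
  app k := AddCommGrpCat.ofHom (th g m k.unop)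
  naturality k k' φ := by
    ext x
    exact th_naturality g m φ.unop x

theorem isExactOp_tgtF : Dev.IsExactOp (tgtF g m) := by
  intro T₀ hT x
  constructor
  · intro hx
    exact Dev.exists_factor_map (Adjunction.ofIsLeftAdjoint ((T X).obj g)) _ hT x hx
  · rintro ⟨y, rfl⟩
    change ((T X).obj g).map T₀.mor₁ ≫ ((T X).obj g).map T₀.mor₂ ≫ y = 0
    rw [← Functor.map_comp_assoc, comp_distTriang_mor_zero₁₂ _ hT, Functor.map_zero, zero_comp]

theorem isExactOp_srcF : Dev.IsExactOp (srcF g m) := by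
  intro T₀ hT x
  constructor
  · intro hx
    obtain ⟨C, j, δ, hd⟩ := distinguished_cocone_triangle₁ (rmap T₀.mor₁)
    have hj : j ≫ rmap T₀.mor₁ = 0 := comp_distTriang_mor_zero₁₂ _ hd
    have hz : ((T X).obj C).map T₀.mor₁ ≫ ((T X).map j).app T₀.obj₂ ≫ ev T₀.obj₂ = 0 := by
      rw [← comp_rmap, hj]
      exact (congrArg (· ≫ ev _) (((T X).flip.obj T₀.obj₁).map_zero _ _)).trans zero_comp
    obtain ⟨r, hr⟩ := Dev.exists_factor_map (Adjunction.ofIsLeftAdjoint ((T X).obj C)) _ hT _ hz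
    obtain ⟨t, ht⟩ := ev_surjective r
    have htj : t ≫ rmap T₀.mor₂ = j := ev_injective (by rw [comp_rmap, ht, hr])
    obtain ⟨q, hq⟩ := Dev.exists_lift_map (Adjunction.ofIsLeftAdjoint ((T X).obj m)) _ hd x hx
    refine ⟨q ≫ ((T X).obj m).map t, ?_⟩
    change (q ≫ ((T X).obj m).map t) ≫ ((T X).obj m).map (rmap T₀.mor₂) = x
    rw [Category.assoc, ← Functor.map_comp]
    exact (congrArg (fun z => q ≫ ((T X).obj m).map z) htj).trans hq
  · rintro ⟨y, rfl⟩
    change (y ≫ ((T X).obj m).map (rmap T₀.mor₂)) ≫ ((T X).obj m).map (rmap T₀.mor₁) = 0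
    rw [Category.assoc, ← Functor.map_comp, ← rmap_comp, comp_distTriang_mor_zero₁₂ _ hT, rmap_zero,
      Functor.map_zero, comp_zero]

variable {g m}

/-- The dual sends isomorphisms over `A` to isomorphisms over `A`. -/
theorem isoOn_rmap {A : X.Opens} {k k' : DCoh.D X} {φ : k ⟶ k'} (h : IsoOn A φ) :
    IsoOn A (rmap φ) := by
  refine (isoOn_iff_bijective A _).2 fun H => ?_
  haveI := isIso_TObj_cut A H h
  have hc : Function.Bijective fun z : ((T X).obj (cut A H)).obj k' ⟶ one X =>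
      ((T X).obj (cut A H)).map φ ≫ z :=
    ((asIso (((T X).obj (cut A H)).map φ)).symm.homCongr (Iso.refl (one X))).bijective |> fun hb => by
      convert hb using 1
      funext z
      simp
  have e : (fun x : cut A H ⟶ ro k' => x ≫ rmap φ) =
      (adjR k).homEquiv _ _ ∘ (fun z : ((T X).obj (cut A H)).obj k' ⟶ one X =>
        ((T X).obj (cut A H)).map φ ≫ z) ∘ ((adjR k').homEquiv _ _).symm := by
    funext x
    refine ((adjR k).homEquiv _ _).symm.injective ?_
    simp only [Function.comp_apply, Equiv.symm_apply_apply]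
    rw [Adjunction.homEquiv_counit, Adjunction.homEquiv_counit]
    exact comp_rmap φ x
  rw [e]
  exact ((adjR k).homEquiv _ _).bijective.comp (hc.comp ((adjR k').homEquiv _ _).symm.bijective)

lemma isoOn_θ_iff (A : X.Opens) (k m : DCoh.D X) :
    IsoOn A (θ k m) ↔ ∀ H : DCoh.D X, Function.Bijective (th (cut A H) m k) := by
  rw [isoOn_iff_bijective]
  refine forall_congr' fun H => ?_
  have e : ⇑(th (cut A H) m k) = ((adjR k).homEquiv _ _).symm ∘ fun x => x ≫ θ k m :=
    funext fun x => th_eq _ _ _ x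
  rw [e, Function.Bijective.of_comp_iff' ((adjR k).homEquiv _ _).symm.bijective]

lemma th_bijective_iff_of_isoOn (A : X.Opens) {k k' : DCoh.D X} {φ : k ⟶ k'} (h : IsoOn A φ)
    (H m : DCoh.D X) :
    Function.Bijective (th (cut A H) m k') ↔ Function.Bijective (th (cut A H) m k) := by
  have hl : Function.Bijective
      (fun x : cut A H ⟶ ((T X).obj m).obj (ro k') => x ≫ ((T X).obj m).map (rmap φ)) :=
    (isoOn_iff_bijective A _).1 (isoOn_TObj m (isoOn_rmap h)) H
  haveI := isIso_TObj_cut A H h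
  have hr : Function.Bijective fun z : ((T X).obj (cut A H)).obj k' ⟶ m =>
      ((T X).obj (cut A H)).map φ ≫ z :=
    ((asIso (((T X).obj (cut A H)).map φ)).symm.homCongr (Iso.refl m)).bijective |> fun hb => by
      convert hb using 1
      funext z
      simp
  have e : ⇑(th (cut A H) m k) ∘ (fun x => x ≫ ((T X).obj m).map (rmap φ)) =
      (fun z => ((T X).obj (cut A H)).map φ ≫ z) ∘ ⇑(th (cut A H) m k') :=
    funext fun x => th_naturality _ _ φ x
  rw [← Function.Bijective.of_comp_iff _ hl, e, Function.Bijective.of_comp_iff' hr]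

/-- The pairing is an isomorphism for invertible objects. -/
theorem isIso_θ_of_isEquivalence (k m : DCoh.D X) [((T X).flip.obj k).IsEquivalence] : IsIso (θ k m) := by
  haveI : IsIso (ev k) := inferInstanceAs (IsIso ((adjR k).counit.app (one X)))
  haveI : IsIso (αc k m) := by unfold αc; infer_instance
  rw [θ, Adjunction.homEquiv_unit]
  infer_instance

/-- `θ` is an isomorphism over `A`, for all shifts. -/
def Good (A : X.Opens) (k : DCoh.D X) : Prop := ∀ (n : ℤ) (m : DCoh.D X), IsoOn A (θ (k⟦n⟧) m)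

theorem good_iff_of_isoOn {A : X.Opens} {k k' : DCoh.D X} {φ : k ⟶ k'} (h : IsoOn A φ) :
    Good A k' ↔ Good A k := by
  refine forall_congr' fun n => forall_congr' fun m => ?_
  rw [isoOn_θ_iff, isoOn_θ_iff]
  exact forall_congr' fun H => th_bijective_iff_of_isoOn A (h.shift n) H m

theorem stable_good (A : X.Opens) : Stable (X := X) (Good A) where
  of_iso e h := (good_iff_of_isoOn (isoOn_of_isIso A e.inv)).1 h
  shift {K} h n p m := by
    have := h (n + p) m
    rw [isoOn_θ_iff] at this ⊢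
    intro H
    exact (th_bijective_iff_of_isoOn A
      (isoOn_of_isIso A ((shiftFunctorAdd (DCoh.D X) n p).app K).hom) H m).2 (this H)
  ext₂ T₀ hT h₁ h₃ n m := by
    rw [isoOn_θ_iff]
    intro H
    exact Dev.bijective_shift_ext_op (thNat (cut A H) m) (isExactOp_srcF _ _) (isExactOp_tgtF _ _)
      T₀ hT (fun p => (isoOn_θ_iff A _ m).1 (h₁ p m) H) (fun p => (isoOn_θ_iff A _ m).1 (h₃ p m) H) n
  of_isZero {K} hK n m := by
    have hz : IsZero (K⟦n⟧) := Functor.map_isZero _ hK
    have h1 : IsZero (((T X).obj m).obj (ro (K⟦n⟧))) := Functor.map_isZero _ (isZero_ro hz)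
    have h2 : IsZero ((R (K⟦n⟧)).obj m) := by
      rw [IsZero.iff_id_eq_zero]
      apply ((adjR _).homEquiv _ _).symm.injective
      exact (Functor.map_isZero ((T X).obj _) hz).eq_of_src _ _
    haveI : IsIso (θ (K⟦n⟧) m) := isIso_of_source_target_iso_zero _ h1.isoZero h2.isoZero
    exact isoOn_of_isIso A _

end Groth.Agent.H16Derived.Dual
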