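import Groth.Agent.H16Derived.Dual.Pairing
import Groth.Agent.H16Derived.KFlat.PerfSummand
import Groth.Agent.H16Derived.KFlat.PerfCohLocal
import Groth.Agent.H16Derived.KFlat.PerfCohSingle
import Groth.Agent.H16Derived.KFlat.PerfFlat

/-!
# Perfect objects are dualizable
-/

set_option autoImplicit false
set_option linter.style.haveILetI false

universe u

open CategoryTheory CategoryTheory.Limits CategoryTheory.Functor AlgebraicGeometry Pretriangulated

attribute [local instance] HasDerivedCategory.standard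

namespace Groth.Agent.H16Derived.Dual

open Groth.Agent.H16Derived.KFlat Groth.Agent.H16Derived.KFlat.Stalk Groth.Agent.H16Derived.ProjFormula
open Groth.Agent.H16Derived.QCohD

variable {X : Scheme.{u}}

/-- A property invariant under isomorphisms over `A`. -/
def InvOn (A : X.Opens) (P : DCoh.D X → Prop) : Prop :=
  ∀ {k k' : DCoh.D X} (φ : k ⟶ k'), IsoOn A φ → (P k' ↔ P k)

/-- The counit `j_! j^* ⟶ 1` is an isomorphism over `A`. -/
lemma qisOn_εC (A : X.Opens) (C : Cx X) : QisOn A (MV.εC A C) := by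
  haveI : ∀ q, IsIso (((DCoh.restrictCx A).map (MV.εC A C)).f q) := fun q =>
    MV.isIso_restrict_ε A (C.X q)
  haveI := HomologicalComplex.Hom.isIso_of_components ((DCoh.restrictCx A).map (MV.εC A C))
  show QuasiIso _
  infer_instance

/-- Maps of single complexes which are isomorphisms over `A`. -/
lemma isoOn_single_map (A : X.Opens) {M N : X.Modules} (f : M ⟶ N) (q : ℤ)
    [IsIso ((Scheme.Modules.restrictFunctor A.ι).map f)] :
    IsoOn A ((DerivedCategory.singleFunctor X.Modules q).map f) := by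
  refine (isoOn_Q_map_iff A ((CochainComplex.singleFunctor X.Modules q).map f)).2 ?_
  haveI : ∀ i, IsIso (((DCoh.restrictCx A).map
      ((CochainComplex.singleFunctor X.Modules q).map f)).f i) := fun i => by
    show IsIso ((Scheme.Modules.restrictFunctor A.ι).map
      (((HomologicalComplex.single X.Modules (ComplexShape.up ℤ) q).map f).f i))
    by_cases hi : i = q
    · subst hi
      rw [HomologicalComplex.single_map_f_self, Functor.map_comp, Functor.map_comp]
      infer_instance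
    · exact isIso_of_source_target_iso_zero _
        (Functor.map_isZero _ (HomologicalComplex.isZero_single_obj_X _ _ _ _ hi)).isoZero
        (Functor.map_isZero _ (HomologicalComplex.isZero_single_obj_X _ _ _ _ hi)).isoZero
  haveI := HomologicalComplex.Hom.isIso_of_components
    ((DCoh.restrictCx A).map ((CochainComplex.singleFunctor X.Modules q).map f))
  show QuasiIso _
  infer_instance

/-- Induction along a free model on `A`. -/
theorem freeModel_induction {A : X.Opens} {P : DCoh.D X → Prop} (hP : Stable P) (hinv : InvOn A P)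
    (hbase : ∀ n : ℤ, P (o X n)) {K : DCoh.D X} (hA : FreeModel A.ι K) : P K := by
  obtain ⟨E, ⟨a, b, hab⟩, hE, ⟨α⟩⟩ := hA
  let C := ((CxOX.extZero A.ι).mapHomologicalComplex (ComplexShape.up ℤ)).obj E
  let CK := DerivedCategory.Q.objPreimage K
  let eK : DerivedCategory.Q.obj CK ≅ K := DerivedCategory.Q.objObjPreimageIso K
  let e : DerivedCategory.Q.obj C ≅ DerivedCategory.Q.obj ((MV.EC A).obj CK) :=
    ((CxOX.extZero A.ι).mapDerivedCategoryFactors.app E).symm ≪≫ (CxOX.extZeroD A.ι).mapIso α ≪≫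
      (DCoh.restrictD A.ι ⋙ CxOX.extZeroD A.ι).mapIso eK.symm ≪≫ MV.extZeroDIso A CK
  have hφ : IsoOn A (e.hom ≫ DerivedCategory.Q.map (MV.εC A CK) ≫ eK.hom) :=
    (isoOn_of_isIso A _).comp
      (((isoOn_Q_map_iff A _).2 (qisOn_εC A CK)).comp (isoOn_of_isIso A _))
  refine (hinv _ hφ).2 ?_
  have hz : ∀ q, q < a ∨ b < q → IsZero (C.X q) := fun q hq =>
    Functor.map_isZero _ (hab q hq)
  have hr : ∀ q, P ((DerivedCategory.singleFunctor X.Modules q).obj (C.X q)) := fun q => by
    obtain ⟨n, ⟨en⟩⟩ := hE q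
    let G := CxOX.extZero A.ι ⋙ DerivedCategory.singleFunctor X.Modules q
    refine hP.of_iso (G.mapIso en.symm) (hP.map_sigma G n _ fun _ => ?_)
    let r : (CxOX.extZero A.ι).obj (Coh.structureModule (A : Scheme.{u})) ⟶ Coh.structureModule X :=
      (CxOX.extZero A.ι).map (Scheme.Modules.restrictUnitIso A.ι).inv ≫
        (MV.ε A).app (Coh.structureModule X)
    haveI : IsIso ((Scheme.Modules.restrictFunctor A.ι).map r) := by
      haveI := MV.isIso_restrict_ε A (Coh.structureModule X)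
      simp only [r, Functor.map_comp]
      infer_instance
    refine (hinv _ (isoOn_single_map A r q)).1 ?_
    exact hP.of_iso ((DerivedCategory.Q.commShiftIso (-q)).app (S₀ X) ≪≫
      ((DerivedCategory.singleFunctors X.Modules).shiftIso (-q) q 0 (by omega)).app _) (hbase (-q))
  exact bounded_induction P (fun e h => hP.of_iso e h) hP.ext₂ (fun Z hZ => hP.of_isZero hZ)
    (b + 1 - a).toNat a C (fun q hq => hz q (Or.inl hq)) (fun q hq => hz q (Or.inr (by omega))) hr

/-- Shifts of the unit compose. -/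
noncomputable def oShiftIso (p n : ℤ) : (o X p)⟦n⟧ ≅ o X (p + n) :=
  ((DerivedCategory.Q.commShiftIso n).app (S X p)).symm ≪≫
    DerivedCategory.Q.mapIso ((shiftFunctorAdd (Cx X) p n).app (S₀ X)).symm

theorem good_o (A : X.Opens) (p : ℤ) : Good A (o X p) := fun n m => by
  haveI : ((T X).flip.obj ((o X p)⟦n⟧)).IsEquivalence :=
    Functor.isEquivalence_of_iso ((T X).flip.mapIso (oShiftIso p n).symm)
  haveI := isIso_θ_of_isEquivalence ((o X p)⟦n⟧) m
  exact isoOn_of_isIso A _

/-- The pairing is an isomorphism for perfect objects. -/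
theorem isIso_θ {k : DCoh.D X} (hk : DCoh.IsPerfect k) (m : DCoh.D X) : IsIso (θ k m) := by
  refine isIso_of_isoOn_cover _ fun x => ?_
  obtain ⟨A, hx, hA⟩ := exists_freeModel hk x
  have h : Good A k := freeModel_induction (stable_good A) (fun φ h => good_iff_of_isoOn h) (good_o A) hA
  have h0 := h 0 m
  rw [isoOn_θ_iff] at h0
  exact ⟨A, hx, (isoOn_θ_iff A k m).2 fun H => (th_bijective_iff_of_isoOn A
    (isoOn_of_isIso A ((shiftFunctorZero (DCoh.D X) ℤ).app k).inv) H m).1 (h0 H)⟩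

theorem isPerfect_o (n : ℤ) : DCoh.IsPerfect (o X n) :=
  isPerfect_of_iso ((DerivedCategory.Q.commShiftIso n).app (S₀ X)).symm (isPerfect_shift
    (isPerfect_of_local fun y => ⟨_, (⊤ : X.Opens).ι, inferInstance, ⟨⟨y, trivial⟩, rfl⟩, _,
      isStrictlyPerfect_rd _ (isStrictlyPerfect_single ((isFinLocFree_iff _).2 fun _ =>
        ⟨⊤, trivial, isFreeFin_structureModule.pullback _⟩)),
      ⟨(rdQ _).symm.app _⟩⟩) n)

/-- The dual of an isomorphism. -/
noncomputable def roIso {k k' : DCoh.D X} (e : k ≅ k') : ro k' ≅ ro k where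
  hom := rmap e.hom
  inv := rmap e.inv
  hom_inv_id := by rw [← rmap_comp, e.inv_hom_id, rmap_id]
  inv_hom_id := by rw [← rmap_comp, e.hom_inv_id, rmap_id]

/-- The duals of the invertible objects. -/
noncomputable def roOIso (n : ℤ) : ro (o X n) ≅ o X (-n) :=
  (R (o X n)).mapIso (nonempty_o_tensor_o X (-n) n (by omega)).some.symm ≪≫
    ((asIso (adjR (o X n)).unit).app (o X (-n))).symm

/-- The dual is perfect over `A`, for all shifts. -/
def PerfDual (A : X.Opens) (k : DCoh.D X) : Prop :=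
  ∀ n : ℤ, DCoh.IsPerfect ((rA A).obj (ro (k⟦n⟧)))

theorem invOn_perfDual (A : X.Opens) : InvOn A (PerfDual (X := X) A) := fun {k k'} φ h =>
  forall_congr' fun n => by
    have := isoOn_rmap (h.shift n)
    unfold IsoOn at this
    exact ⟨fun hp => isPerfect_of_iso (asIso ((rA A).map (rmap (φ⟦n⟧')))) hp,
      fun hp => isPerfect_of_iso (asIso ((rA A).map (rmap (φ⟦n⟧')))).symm hp⟩

theorem perfect_mid {U : Scheme.{u}} {T₀ : Triangle (DCoh.D U)} (hT : T₀ ∈ distTriang (DCoh.D U))
    (h₁ : DCoh.IsPerfect T₀.obj₁) (h₃ : DCoh.IsPerfect T₀.obj₃) : DCoh.IsPerfect T₀.obj₂ :=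
  isPerfect_obj₃ (inv_rot_of_distTriang _ hT) (isPerfect_shift h₃ (-1)) h₁

theorem perfDual_ext₂ (A : X.Opens) (T₀ : Triangle (DCoh.D X)) (hT : T₀ ∈ distTriang (DCoh.D X))
    (h₁ : ∀ n : ℤ, DCoh.IsPerfect ((rA A).obj (ro (T₀.obj₁⟦n⟧))))
    (h₃ : ∀ n : ℤ, DCoh.IsPerfect ((rA A).obj (ro (T₀.obj₃⟦n⟧)))) (n : ℤ) :
    DCoh.IsPerfect ((rA A).obj (ro (T₀.obj₂⟦n⟧))) := by
  have hcongr : ∀ {k k' : DCoh.D X} (_ : k ≅ k'),
      DCoh.IsPerfect ((rA A).obj (ro k)) → DCoh.IsPerfect ((rA A).obj (ro k')) := fun {k k'} e h =>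
    isPerfect_of_iso ((rA A).mapIso (roIso e.symm)) h
  let T₁ := ((Triangle.shiftFunctor (DCoh.D X) n).obj T₀).invRotate
  have hT₁ : T₁ ∈ distTriang (DCoh.D X) :=
    inv_rot_of_distTriang _ (Triangle.shift_distinguished _ hT n)
  obtain ⟨G', G, f, eG', eG, hG', hG, hf⟩ : ∃ (G' G : Cx X) (f : G' ⟶ G)
      (eG' : DerivedCategory.Q.obj G' ≅ T₁.obj₁) (eG : DerivedCategory.Q.obj G ≅ T₁.obj₂),
      IsKFlat (DCoh.tensorBi (X := X)) G' ∧ IsKFlat (DCoh.tensorBi (X := X)) G ∧
        DerivedCategory.Q.map f ≫ eG.hom = eG'.hom ≫ T₁.mor₁ := by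
    let e₀ := DerivedCategory.Q.objObjPreimageIso T₁.obj₁
    let e₁ := DerivedCategory.Q.objObjPreimageIso T₁.obj₂
    obtain ⟨P, s, hs, g, hg⟩ := DerivedCategory.right_fac (e₀.hom ≫ T₁.mor₁ ≫ e₁.inv)
    haveI := hs
    haveI := isIso_Q_map _ (quasiIso_resψ P)
    haveI := isIso_Q_map _ (quasiIso_resψ (DerivedCategory.Q.objPreimage T₁.obj₂))
    refine ⟨_, _, (res (X := X)).map g,
      asIso (DerivedCategory.Q.map ((resψ (X := X)).app P)) ≪≫ asIso (DerivedCategory.Q.map s) ≪≫ e₀,
      asIso (DerivedCategory.Q.map ((resψ (X := X)).app (DerivedCategory.Q.objPreimage T₁.obj₂))) ≪≫ e₁,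
      isKFlat_res _, isKFlat_res _, ?_⟩
    have hn : (res (X := X)).map g ≫ (resψ (X := X)).app _ = (resψ (X := X)).app P ≫ g :=
      (resψ (X := X)).naturality g
    have hg' : DerivedCategory.Q.map g ≫ e₁.hom = DerivedCategory.Q.map s ≫ e₀.hom ≫ T₁.mor₁ := by
      rw [← cancel_mono e₁.inv, Category.assoc, Iso.hom_inv_id, Category.comp_id]
      simp only [Category.assoc]
      rw [hg, IsIso.hom_inv_id_assoc]
    simp only [Iso.trans_hom, asIso_hom, Category.assoc]
    rw [← hg']
    exact (Category.assoc _ _ _).symm.trans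
      ((congrArg (· ≫ e₁.hom) ((DerivedCategory.Q.map_comp _ _).symm.trans
        ((congrArg DerivedCategory.Q.map hn).trans (DerivedCategory.Q.map_comp _ _)))).trans
          (Category.assoc _ _ _))
  let Tc := DerivedCategory.Q.mapTriangle.obj (CochainComplex.mappingCone.triangle f)
  let eT := isoTriangleOfIso₁₂ Tc T₁ (DerivedCategory.mappingCone_triangle_distinguished f) hT₁
    eG' eG hf
  let Sh := CochainComplex.mappingCone.triangleRotateShortComplex f
  let σ := CochainComplex.mappingCone.triangleRotateShortComplexSplitting f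
  have hk₁ : IsKFlat (DCoh.tensorBi (X := X)) Sh.X₁ := hG
  have hk₂ : IsKFlat (DCoh.tensorBi (X := X)) Sh.X₂ := hG'.mappingCone f hG
  have hk₃ : IsKFlat (DCoh.tensorBi (X := X)) Sh.X₃ := hG'.shift 1
  obtain ⟨N, j, hN⟩ := KInjRes.exists_resolution_functor (A := X.Modules)
  let I := N.obj (S₀ X)
  haveI := (hN (S₀ X)).2.2.1
  haveI := isIso_Q_map _ (hN (S₀ X)).2.1
  let H := homSeq (DCoh.tensorBi (X := X)).flip Sh I
  have hH : H.ShortExact := shortExact_homSeq _ Sh σ I
  have rIso : ∀ (E : Cx X), IsKFlat (DCoh.tensorBi (X := X)) E →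
      Nonempty (DerivedCategory.Q.obj (homCx (DCoh.tensorBi (X := X)).flip E I) ≅
        ro (DerivedCategory.Q.obj E)) := fun E hE =>
    ⟨(rightObjIso (DCoh.tensorBi (X := X)).flip E (acyclic_tot_flip hE) (TFlipIso E hE) (adjR _)).symm ≪≫
      (R _).mapIso (asIso (DerivedCategory.Q.map (j.app (S₀ X)))).symm⟩
  have p₁ : DCoh.IsPerfect ((rA A).obj (DerivedCategory.Q.obj H.X₁)) := by
    refine isPerfect_of_iso ((rA A).mapIso (rIso _ hk₃).some).symm ?_
    refine hcongr ?_ (h₃ n)
    exact (shiftFunctorCompIsoId (DCoh.D X) (-1 : ℤ) 1 (by omega)).symm.app _ ≪≫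
      (shiftFunctor (DCoh.D X) (1 : ℤ)).mapIso eG'.symm ≪≫
      ((DerivedCategory.Q.commShiftIso (1 : ℤ)).app G').symm
  have p₃ : DCoh.IsPerfect ((rA A).obj (DerivedCategory.Q.obj H.X₃)) :=
    isPerfect_of_iso ((rA A).mapIso (rIso _ hk₁).some).symm (hcongr eG.symm (h₁ n))
  refine hcongr (Triangle.π₃.mapIso eT) ?_
  refine isPerfect_of_iso ((rA A).mapIso (rIso _ hk₂).some) ?_
  exact perfect_mid (T₀ := (rA A).mapTriangle.obj (DerivedCategory.triangleOfSES hH))
    ((rA A).map_distinguished _ (DerivedCategory.triangleOfSES_distinguished hH)) p₁ p₃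

theorem stable_perfDual (A : X.Opens) : Stable (X := X) (PerfDual A) where
  of_iso e h := (invOn_perfDual A e.inv (isoOn_of_isIso A _)).1 h
  shift {K} h n p :=
    isPerfect_of_iso ((rA A).mapIso (roIso ((shiftFunctorAdd (DCoh.D X) n p).app K))).symm (h (n + p))
  ext₂ T₀ hT h₁ h₃ := perfDual_ext₂ A T₀ hT h₁ h₃
  of_isZero {K} hK n := by
    have hz : IsZero ((rA A).obj (ro (K⟦n⟧))) :=
      Functor.map_isZero _ (isZero_ro (Functor.map_isZero _ hK))
    refine isPerfect_of_local fun x => ⟨_, (⊤ : (A : Scheme.{u}).Opens).ι, inferInstance,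
      ⟨⟨x, trivial⟩, rfl⟩, _,
        isStrictlyPerfect_single (isFinLocFree_of_isZero (isZero_zero _)),
      ⟨(Functor.map_isZero DerivedCategory.Q (Functor.map_isZero (CochainComplex.singleFunctor _ 0)
        (isZero_zero _))).iso (Functor.map_isZero _ hz)⟩⟩

theorem perfDual_o (A : X.Opens) (p : ℤ) : PerfDual A (o X p) := fun n =>
  isPerfect_of_iso ((rA A).mapIso (roIso (oShiftIso (X := X) p n)))
    (isPerfect_rd A.ι (isPerfect_of_iso (roOIso (p + n)).symm (isPerfect_o _)))

/-- The dual of a perfect object is perfect. -/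
theorem isPerfect_ro {k : DCoh.D X} (hk : DCoh.IsPerfect k) : DCoh.IsPerfect (ro k) := by
  refine isPerfect_of_rd fun x => ?_
  obtain ⟨A, hx, hA⟩ := exists_freeModel hk x
  have h := freeModel_induction (stable_perfDual A) (invOn_perfDual A) (perfDual_o A) hA 0
  exact ⟨A, hx, isPerfect_of_iso
    ((rA A).mapIso (roIso ((shiftFunctorZero (DCoh.D X) ℤ).app k).symm)) h⟩

end Groth.Agent.H16Derived.Dual
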