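import Groth.Agent.H16Derived.Dual.BiDual
import Groth.Agent.H16Derived.Dual.Local
import Groth.Agent.H16Derived.KFlat.SheafAssoc

/-!
# `RHom(K, -)` commutes with restriction to opens
-/

set_option autoImplicit false
set_option linter.style.haveILetI false
set_option backward.isDefEq.respectTransparency false

universe u v v₁ u₁ w₁ w₂

open CategoryTheory CategoryTheory.Limits CategoryTheory.Functor AlgebraicGeometry

namespace Groth.Agent.H16Derived.Dual

section Generic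

variable {C D : Type*} [Category C] [Category D] {L : C ⥤ D} {R : D ⥤ C}

/-- A functor with a fully faithful left adjoint is bijective on maps out of the image of the latter. -/
theorem bijective_map_of_isIso_unit (adj : L ⊣ R) [IsIso adj.unit] {Y : D} {x : C} (e : Y ≅ L.obj x) (M : D) :
    Function.Bijective fun z : Y ⟶ M => R.map z := by
  let g : (R.obj Y) ≅ x := R.mapIso e ≪≫ (asIso adj.unit).symm.app x
  have h : (fun z : Y ⟶ M => R.map z) =
      (fun y => g.hom ≫ y) ∘ adj.homEquiv x M ∘ (fun z => e.inv ≫ z) := funext fun z => by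
    simp only [Function.comp_apply, Adjunction.homEquiv_unit, Functor.map_comp]
    simp [g]
  rw [h]
  have h₁ : Function.Bijective fun y : x ⟶ R.obj M => g.hom ≫ y :=
    ⟨fun a b hab => (cancel_epi g.hom).1 hab, fun b => ⟨g.inv ≫ b, by simp⟩⟩
  have h₂ : Function.Bijective fun z : Y ⟶ M => e.inv ≫ z :=
    ⟨fun a b hab => (cancel_epi e.inv).1 hab, fun b => ⟨e.hom ≫ b, by simp⟩⟩
  exact h₁.comp ((Equiv.bijective _).comp h₂)

variable {C' D' : Type*} [Category C'] [Category D'] {T : D ⥤ D} {T' : C ⥤ C} {H : D ⥤ D} {H' : C ⥤ C}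

/-- Right adjoints commute with a functor admitting a fully faithful left adjoint. -/
theorem nonempty_rightAdjoint_comm (adjL : L ⊣ R) [IsIso adjL.unit] (adj : T ⊣ H) (adj' : T' ⊣ H')
    (Φ : T ⋙ R ≅ R ⋙ T') (hT : ∀ x, ∃ x', Nonempty (T.obj (L.obj x) ≅ L.obj x')) (M : D) :
    Nonempty (R.obj (H.obj M) ≅ H'.obj (R.obj M)) := by
  let f := Φ.inv.app (H.obj M) ≫ R.map (adj.counit.app M)
  let β := adj'.homEquiv (R.obj (H.obj M)) (R.obj M) f
  suffices IsIso β from ⟨asIso β⟩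
  refine (isIso_iff_yoneda_map_bijective β).2 fun x => ?_
  obtain ⟨x', ⟨e⟩⟩ := hT x
  let η := adjL.unit.app x
  let E₁ : (L.obj x ⟶ H.obj M) → (x ⟶ H'.obj (R.obj M)) := fun w =>
    adjL.homEquiv x _ w ≫ β
  have hE₁ : E₁ = (adj'.homEquiv x (R.obj M)) ∘ (fun y => T'.map η ≫ Φ.inv.app (L.obj x) ≫ y) ∘
      (fun z => R.map z) ∘ (adj.homEquiv _ _).symm := funext fun w => by
    show adjL.homEquiv x _ w ≫ β = adj'.homEquiv x _
      (T'.map η ≫ Φ.inv.app (L.obj x) ≫ R.map ((adj.homEquiv _ _).symm w))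
    rw [← adj'.homEquiv_naturality_left]
    refine congrArg _ ?_
    rw [Adjunction.homEquiv_counit, Adjunction.homEquiv_unit]
    simp only [f, Functor.map_comp, Category.assoc]
    exact congrArg (T'.map η ≫ ·) (Φ.inv.naturality_assoc w (R.map (adj.counit.app M)))
  have hb : Function.Bijective E₁ := by
    rw [hE₁]
    refine (Equiv.bijective _).comp (Function.Bijective.comp ?_
      ((bijective_map_of_isIso_unit adjL e M).comp (Equiv.bijective _)))
    exact ⟨fun a b hab => (cancel_epi (T'.map η ≫ Φ.inv.app (L.obj x))).1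
      (by simpa only [Category.assoc] using hab),
      fun b => ⟨inv (T'.map η ≫ Φ.inv.app (L.obj x)) ≫ b, by
        simpa only [Category.assoc] using IsIso.hom_inv_id_assoc (T'.map η ≫ Φ.inv.app (L.obj x)) b⟩⟩
  exact (Function.Bijective.of_comp_iff _ (adjL.homEquiv x (H.obj M)).bijective).1 hb

end Generic

section Derived

variable {A : Type u₁} [Category.{v₁} A] [Abelian A] [HasDerivedCategory.{w₁} A]
  {B : Type u₁} [Category.{v₁} B] [Abelian B] [HasDerivedCategory.{w₂} B]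
  {G : A ⥤ B} {F : B ⥤ A} [G.Additive] [F.Additive]
  [PreservesFiniteLimits G] [PreservesFiniteColimits G] [PreservesFiniteLimits F] [PreservesFiniteColimits F]

/-- A fully faithful exact left adjoint is fully faithful on derived categories. -/
theorem isIso_unit_mapDerivedCategoryAdj (adj : G ⊣ F) [IsIso adj.unit] :
    IsIso (ExactAdj.mapDerivedCategoryAdj adj).unit := by
  refine Adjunction.isIso_unit_of_iso _ (Localization.liftNatIso DerivedCategory.Q
    (HomologicalComplex.quasiIso A (ComplexShape.up ℤ))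
    (DerivedCategory.Q ⋙ G.mapDerivedCategory ⋙ F.mapDerivedCategory) (DerivedCategory.Q ⋙ 𝟭 _) _ _ ?_)
  exact (Functor.associator _ _ _).symm ≪≫ isoWhiskerRight G.mapDerivedCategoryFactors _ ≪≫
    Functor.associator _ _ _ ≪≫ isoWhiskerLeft _ F.mapDerivedCategoryFactors ≪≫
    (Functor.associator _ _ _).symm ≪≫
    isoWhiskerRight ((NatIso.ofComponents (fun C => (NatIso.mapHomologicalComplex (asIso adj.unit).symm
        (ComplexShape.up ℤ)).app C ≪≫ (Functor.mapHomologicalComplexIdIso A _).app C)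
      (fun φ => HomologicalComplex.hom_ext _ _ fun i => by
        have := adj.unit.naturality (φ.f i)
        dsimp at this
        simp [← reassoc_of% this]
        exact (Category.id_comp _).symm)) :
      G.mapHomologicalComplex _ ⋙ F.mapHomologicalComplex _ ≅ 𝟭 _) _ ≪≫
    Functor.leftUnitor _ ≪≫ (Functor.rightUnitor _).symm

end Derived

section TotNat

theorem ι_map₂_app {A : Type*} [Category A] [Abelian A] {B : Type*} [Category B] [Abelian B]
    {C : Type*} [Category C] [Abelian C] [HasCountableCoproducts C] (F : A ⥤ B ⥤ C) [F.Additive]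
    [∀ a, (F.obj a).Additive] {L L' : CochainComplex A ℤ} (φ : L ⟶ L') (E : CochainComplex B ℤ)
    (p q n : ℤ) (h : p + q = n) :
    HomologicalComplex.ιMapBifunctor L E F (ComplexShape.up ℤ) p q n h ≫
        ((F.map₂CochainComplex.map φ).app E).f n =
      (F.map (φ.f p)).app (E.X q) ≫ HomologicalComplex.ιMapBifunctor L' E F (ComplexShape.up ℤ) p q n h :=
  (HomologicalComplex.ι_mapBifunctorMap φ (𝟙 E) F (ComplexShape.up ℤ) p q n h).trans
    (congrArg (_ ≫ ·) ((congrArg (· ≫ _) ((F.obj (L'.X p)).map_id (E.X q))).trans (Category.id_comp _)))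

open Groth.Agent.H16Derived.KFlat

variable {A₁ : Type*} [Category A₁] [Abelian A₁] {B₁ : Type*} [Category B₁] [Abelian B₁]
  {C₁ : Type*} [Category C₁] [Abelian C₁] [HasCountableCoproducts C₁]
  {F₁ : A₁ ⥤ B₁ ⥤ C₁} [F₁.Additive] [∀ a, (F₁.obj a).Additive]
  {A₂ : Type*} [Category A₂] [Abelian A₂] {B₂ : Type*} [Category B₂] [Abelian B₂]
  {C₂ : Type*} [Category C₂] [Abelian C₂] [HasCountableCoproducts C₂]
  {F₂ : A₂ ⥤ B₂ ⥤ C₂} [F₂.Additive] [∀ a, (F₂.obj a).Additive]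
  {D : Type*} [Category D] [Abelian D] {G₁ : C₁ ⥤ D} [G₁.Additive] {G₂ : C₂ ⥤ D} [G₂.Additive]
  [∀ J : Type, PreservesColimitsOfShape (Discrete J) G₁]
  [∀ J : Type, PreservesColimitsOfShape (Discrete J) G₂]
  {L₁ L₁' : CochainComplex A₁ ℤ} (E₁ : CochainComplex B₁ ℤ)
  {L₂ L₂' : CochainComplex A₂ ℤ} (E₂ : CochainComplex B₂ ℤ)

/-- `TotCompare.iso` is natural in the first variable. -/
theorem totCompare_iso_naturality
    (β : ∀ p q : ℤ, G₁.obj ((F₁.obj (L₁.X p)).obj (E₁.X q)) ≅ G₂.obj ((F₂.obj (L₂.X p)).obj (E₂.X q)))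
    (h₁ : ∀ p q : ℤ, G₁.map ((F₁.map (L₁.d p (p + 1))).app (E₁.X q)) ≫ (β (p + 1) q).hom =
      (β p q).hom ≫ G₂.map ((F₂.map (L₂.d p (p + 1))).app (E₂.X q)))
    (h₂ : ∀ p q : ℤ, G₁.map ((F₁.obj (L₁.X p)).map (E₁.d q (q + 1))) ≫ (β p (q + 1)).hom =
      (β p q).hom ≫ G₂.map ((F₂.obj (L₂.X p)).map (E₂.d q (q + 1))))
    (β' : ∀ p q : ℤ, G₁.obj ((F₁.obj (L₁'.X p)).obj (E₁.X q)) ≅ G₂.obj ((F₂.obj (L₂'.X p)).obj (E₂.X q)))
    (h₁' : ∀ p q : ℤ, G₁.map ((F₁.map (L₁'.d p (p + 1))).app (E₁.X q)) ≫ (β' (p + 1) q).hom =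
      (β' p q).hom ≫ G₂.map ((F₂.map (L₂'.d p (p + 1))).app (E₂.X q)))
    (h₂' : ∀ p q : ℤ, G₁.map ((F₁.obj (L₁'.X p)).map (E₁.d q (q + 1))) ≫ (β' p (q + 1)).hom =
      (β' p q).hom ≫ G₂.map ((F₂.obj (L₂'.X p)).map (E₂.d q (q + 1))))
    (φ₁ : L₁ ⟶ L₁') (φ₂ : L₂ ⟶ L₂')
    (hφ : ∀ p q : ℤ, G₁.map ((F₁.map (φ₁.f p)).app (E₁.X q)) ≫ (β' p q).hom =
      (β p q).hom ≫ G₂.map ((F₂.map (φ₂.f p)).app (E₂.X q))) :
    (G₁.mapHomologicalComplex (ComplexShape.up ℤ)).map ((F₁.map₂CochainComplex.map φ₁).app E₁) ≫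
        (TotCompare.iso L₁' E₁ L₂' E₂ β' h₁' h₂').hom =
      (TotCompare.iso L₁ E₁ L₂ E₂ β h₁ h₂).hom ≫
        (G₂.mapHomologicalComplex (ComplexShape.up ℤ)).map ((F₂.map₂CochainComplex.map φ₂).app E₂) := by
  refine HomologicalComplex.hom_ext _ _ fun n => ?_
  refine TotCompare.hom_ext F₁ G₁ L₁ E₁ fun p q h => ?_
  have hι₁ := ι_map₂_app F₁ φ₁ E₁ p q n h
  have hι₂ := ι_map₂_app F₂ φ₂ E₂ p q n h
  show G₁.map _ ≫ G₁.map _ ≫ (TotCompare.isoX L₁' E₁ L₂' E₂ β' n).hom =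
    G₁.map _ ≫ (TotCompare.isoX L₁ E₁ L₂ E₂ β n).hom ≫ G₂.map _
  rw [← Category.assoc, ← Functor.map_comp, hι₁, Functor.map_comp, Category.assoc,
    TotCompare.map_ι_isoX, reassoc_of% (hφ p q)]
  refine Eq.trans ?_ (Category.assoc _ _ _)
  rw [TotCompare.map_ι_isoX, Category.assoc, ← Functor.map_comp, ← Functor.map_comp]
  exact congrArg (fun z => _ ≫ G₂.map z) hι₂.symm

/-- The same, with the identity functor removed. -/
theorem totCompare_idIso_naturality
    [∀ J : Type, PreservesColimitsOfShape (Discrete J) (𝟭 C₂)]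
    {H : C₁ ⥤ C₂} [H.Additive] [∀ J : Type, PreservesColimitsOfShape (Discrete J) H]
    (β : ∀ p q : ℤ, H.obj ((F₁.obj (L₁.X p)).obj (E₁.X q)) ≅ (𝟭 C₂).obj ((F₂.obj (L₂.X p)).obj (E₂.X q)))
    (h₁ : ∀ p q : ℤ, H.map ((F₁.map (L₁.d p (p + 1))).app (E₁.X q)) ≫ (β (p + 1) q).hom =
      (β p q).hom ≫ (𝟭 C₂).map ((F₂.map (L₂.d p (p + 1))).app (E₂.X q)))
    (h₂ : ∀ p q : ℤ, H.map ((F₁.obj (L₁.X p)).map (E₁.d q (q + 1))) ≫ (β p (q + 1)).hom =
      (β p q).hom ≫ (𝟭 C₂).map ((F₂.obj (L₂.X p)).map (E₂.d q (q + 1))))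
    (β' : ∀ p q : ℤ, H.obj ((F₁.obj (L₁'.X p)).obj (E₁.X q)) ≅ (𝟭 C₂).obj ((F₂.obj (L₂'.X p)).obj (E₂.X q)))
    (h₁' : ∀ p q : ℤ, H.map ((F₁.map (L₁'.d p (p + 1))).app (E₁.X q)) ≫ (β' (p + 1) q).hom =
      (β' p q).hom ≫ (𝟭 C₂).map ((F₂.map (L₂'.d p (p + 1))).app (E₂.X q)))
    (h₂' : ∀ p q : ℤ, H.map ((F₁.obj (L₁'.X p)).map (E₁.d q (q + 1))) ≫ (β' p (q + 1)).hom =
      (β' p q).hom ≫ (𝟭 C₂).map ((F₂.obj (L₂'.X p)).map (E₂.d q (q + 1))))
    (φ₁ : L₁ ⟶ L₁') (φ₂ : L₂ ⟶ L₂')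
    (hφ : ∀ p q : ℤ, H.map ((F₁.map (φ₁.f p)).app (E₁.X q)) ≫ (β' p q).hom =
      (β p q).hom ≫ (F₂.map (φ₂.f p)).app (E₂.X q)) :
    (H.mapHomologicalComplex (ComplexShape.up ℤ)).map ((F₁.map₂CochainComplex.map φ₁).app E₁) ≫
        (TotCompare.iso L₁' E₁ L₂' E₂ β' h₁' h₂' ≪≫ (Functor.mapHomologicalComplexIdIso _ _).app _).hom =
      (TotCompare.iso L₁ E₁ L₂ E₂ β h₁ h₂ ≪≫ (Functor.mapHomologicalComplexIdIso _ _).app _).hom ≫
        (F₂.map₂CochainComplex.map φ₂).app E₂ := by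
  simp only [Iso.trans_hom, Iso.app_hom, Category.assoc]
  rw [← Category.assoc, totCompare_iso_naturality E₁ E₂ β h₁ h₂ β' h₁' h₂' φ₁ φ₂ hφ, Category.assoc]
  exact congrArg (_ ≫ ·) ((Functor.mapHomologicalComplexIdIso C₂ (ComplexShape.up ℤ)).hom.naturality _)

end TotNat

attribute [local instance] HasDerivedCategory.standard

open Groth.Agent.H16Derived.KFlat Groth.Agent.H16Derived.KFlat.Stalk Groth.Agent.H16Derived.QCohD
  Groth.Agent.H16Derived.ProjFormula

variable {X Y : Scheme.{u}}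

lemma pullTotIso_naturality (f : X ⟶ Y) {K K₂ : CochainComplex Y.Modules ℤ} (φ : K ⟶ K₂)
    (L : CochainComplex Y.Modules ℤ) :
    ((Scheme.Modules.pullback f).mapHomologicalComplex (ComplexShape.up ℤ)).map
        (((DCoh.tensorCx (X := Y)).map φ).app L) ≫ (pullTotIso f K₂ L).hom =
      (pullTotIso f K L).hom ≫ ((DCoh.tensorCx (X := X)).map
        (((Scheme.Modules.pullback f).mapHomologicalComplex (ComplexShape.up ℤ)).map φ)).app
          (((Scheme.Modules.pullback f).mapHomologicalComplex (ComplexShape.up ℤ)).obj L) := by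
  haveI : ∀ J : Type, PreservesColimitsOfShape (Discrete J) (Scheme.Modules.pullback f) := fun J =>
    have := preservesColimitsOfSize_shrink.{0, u, 0, u} (Scheme.Modules.pullback f)
    inferInstance
  exact totCompare_idIso_naturality (H := Scheme.Modules.pullback f) L _ _ _ _ _ _ _ φ _
    fun p q => (pullTensorLIso f (L.X q)).hom.naturality (φ.f p)

/-- Pull-back commutes with `- ⊗ L` on complexes. -/
noncomputable def pullTotNatIso (f : X ⟶ Y) (L : CochainComplex Y.Modules ℤ) :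
    (DCoh.tensorCx (X := Y)).flip.obj L ⋙ (Scheme.Modules.pullback f).mapHomologicalComplex (ComplexShape.up ℤ) ≅
      (Scheme.Modules.pullback f).mapHomologicalComplex (ComplexShape.up ℤ) ⋙
        (DCoh.tensorCx (X := X)).flip.obj
          (((Scheme.Modules.pullback f).mapHomologicalComplex (ComplexShape.up ℤ)).obj L) :=
  NatIso.ofComponents (fun K => pullTotIso f K L) fun φ => pullTotIso_naturality f φ L

/-- Restriction commutes with `- ⊗ L` on complexes. -/
noncomputable def restrictTotNatIso (U : X.Opens) (L : CochainComplex X.Modules ℤ) :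
    (DCoh.tensorCx (X := X)).flip.obj L ⋙ DCoh.restrictCx U ≅
      DCoh.restrictCx U ⋙ (DCoh.tensorCx (X := (U : Scheme.{u}))).flip.obj ((DCoh.restrictCx U).obj L) :=
  let r := NatIso.mapHomologicalComplex (Scheme.Modules.restrictFunctorIsoPullback U.ι) (ComplexShape.up ℤ)
  isoWhiskerLeft _ r ≪≫ pullTotNatIso U.ι L ≪≫ isoWhiskerRight r.symm _ ≪≫
    isoWhiskerLeft _ ((DCoh.tensorCx (X := (U : Scheme.{u}))).flip.mapIso (r.symm.app L))

/-- Restriction commutes with `- ⊗^L k` for a K-flat representative. -/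
theorem nonempty_restrict_tensor_iso (U : X.Opens) (E : Cx X) (hE : IsKFlat (DCoh.tensorBi (X := X)) E) :
    Nonempty ((T X).flip.obj (DerivedCategory.Q.obj E) ⋙ rA U ≅
      rA U ⋙ (T (U : Scheme.{u})).flip.obj (DerivedCategory.Q.obj ((DCoh.restrictCx U).obj E))) := by
  have hE' : IsKFlat (DCoh.tensorBi (X := (U : Scheme.{u}))) ((DCoh.restrictCx U).obj E) :=
    kflat_restrict U hE
  haveI : ∀ L, IsIso ((εFst E).app L) := fun L => isIso_ε L E (Or.inr hE)
  haveI := NatIso.isIso_of_isIso_app (εFst E)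
  haveI : ∀ L, IsIso ((εFst ((DCoh.restrictCx U).obj E)).app L) := fun L => isIso_ε L _ (Or.inr hE')
  haveI := NatIso.isIso_of_isIso_app (εFst ((DCoh.restrictCx U).obj E))
  let W := HomologicalComplex.quasiIso X.Modules (ComplexShape.up ℤ)
  refine ⟨Localization.liftNatIso DerivedCategory.Q W
    (DerivedCategory.Q ⋙ (T X).flip.obj (DerivedCategory.Q.obj E) ⋙ rA U)
    (DerivedCategory.Q ⋙ rA U ⋙ (T (U : Scheme.{u})).flip.obj (DerivedCategory.Q.obj ((DCoh.restrictCx U).obj E)))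
    _ _ ?_⟩
  exact (Functor.associator _ _ _).symm ≪≫ isoWhiskerRight (asIso (εFst E)) _ ≪≫
    Functor.associator _ _ _ ≪≫
    isoWhiskerLeft _ (Scheme.Modules.restrictFunctor U.ι).mapDerivedCategoryFactors ≪≫
    (Functor.associator _ _ _).symm ≪≫ isoWhiskerRight (restrictTotNatIso U E) _ ≪≫
    Functor.associator _ _ _ ≪≫ isoWhiskerLeft _ (asIso (εFst ((DCoh.restrictCx U).obj E))).symm ≪≫
    (Functor.associator _ _ _).symm ≪≫
    isoWhiskerRight (Scheme.Modules.restrictFunctor U.ι).mapDerivedCategoryFactors.symm _ ≪≫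
    Functor.associator _ _ _

/-- `j_! h ⊗^L k` is extended by zero. -/
theorem exists_tensor_extZeroD_iso (U : X.Opens) (E : Cx X) (hE : IsKFlat (DCoh.tensorBi (X := X)) E)
    (h : DCoh.D (U : Scheme.{u})) : ∃ h' : DCoh.D (U : Scheme.{u}),
      Nonempty (((T X).flip.obj (DerivedCategory.Q.obj E)).obj ((CxOX.extZeroD U.ι).obj h) ≅
        (CxOX.extZeroD U.ι).obj h') := by
  haveI : ∀ L, IsIso ((εFst E).app L) := fun L => isIso_ε L E (Or.inr hE)
  haveI := MV.isIso_extZero_unit U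
  let C := DerivedCategory.Q.objPreimage h
  let jC := ((CxOX.extZero U.ι).mapHomologicalComplex (ComplexShape.up ℤ)).obj C
  let W := ((DCoh.tensorCx (X := X)).flip.obj E).obj jC
  have hj : ∀ (p : ℤ) (x : X), x ∉ U → IsZero ((DerSch.stalkFunctor X x).obj (jC.X p)) := fun p x hx =>
    (MV.isZero_stalk_E U (jC.X p) x hx).of_iso ((DerSch.stalkFunctor X x).mapIso
      ((CxOX.extZero U.ι).mapIso ((asIso (CxOX.extZeroAdj U.ι).unit).app (C.X p))))
  haveI : ∀ n, IsIso ((MV.εC U W).f n) := fun n => by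
    show IsIso ((MV.ε U).app (W.X n))
    refine isIso_of_stalk _ fun x => ?_
    by_cases hx : x ∈ U
    · exact MV.isIso_stalk_ε U (W.X n) x hx
    · exact isIso_of_source_target_iso_zero _ (MV.isZero_stalk_E U (W.X n) x hx).isoZero
        (isZero_stalk_tot x jC E (fun p => hj p x hx) n).isoZero
  haveI := HomologicalComplex.Hom.isIso_of_components (MV.εC U W)
  exact ⟨_, ⟨((T X).flip.obj (DerivedCategory.Q.obj E)).mapIso
      ((CxOX.extZeroD U.ι).mapIso (DerivedCategory.Q.objObjPreimageIso h).symm ≪≫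
        (CxOX.extZero U.ι).mapDerivedCategoryFactors.app C) ≪≫
    asIso ((εFst E).app jC) ≪≫ DerivedCategory.Q.mapIso (asIso (MV.εC U W)).symm ≪≫
      (MV.extZeroDIso U W).symm⟩⟩

/-- `RHom` commutes with restriction. -/
theorem nonempty_restrictD_RSheafHom_iso (U : X.Opens) (K : Cx X) [DCoh.HasLTensorCx K] [DCoh.HasRSheafHom K]
    [DCoh.HasLTensorCx ((DCoh.restrictCx U).obj K)] [DCoh.HasRSheafHom ((DCoh.restrictCx U).obj K)]
    (M : DCoh.D X) :
    Nonempty ((rA U).obj ((DCoh.RSheafHom K).obj M) ≅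
      (DCoh.RSheafHom ((DCoh.restrictCx U).obj K)).obj ((rA U).obj M)) := by
  let E := (res (X := X)).obj K
  haveI := isIso_Q_map ((resψ (X := X)).app K) (quasiIso_resψ K)
  haveI := quasiIso_resψ K
  haveI := isIso_Q_map ((DCoh.restrictCx U).map ((resψ (X := X)).app K)) (qisOn_of_quasiIso U _)
  let eX : DerivedCategory.Q.obj K ≅ DerivedCategory.Q.obj E :=
    (asIso (DerivedCategory.Q.map ((resψ (X := X)).app K))).symm
  let eU : DerivedCategory.Q.obj ((DCoh.restrictCx U).obj K) ≅ DerivedCategory.Q.obj ((DCoh.restrictCx U).obj E) :=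
    (asIso (DerivedCategory.Q.map ((DCoh.restrictCx U).map ((resψ (X := X)).app K)))).symm
  haveI := MV.isIso_extZero_unit U
  haveI : IsIso (cutAdj U).unit := isIso_unit_mapDerivedCategoryAdj (CxOX.extZeroAdj U.ι)
  obtain ⟨Φ⟩ := nonempty_restrict_tensor_iso U E (isKFlat_res K)
  obtain ⟨i⟩ := nonempty_rightAdjoint_comm (cutAdj U) (adjR (DerivedCategory.Q.obj E)) (adjR _) Φ
    (exists_tensor_extZeroD_iso U E (isKFlat_res K)) M
  exact ⟨(rA U).mapIso ((rsheafHomIso K ≪≫ RIso eX).app M) ≪≫ i ≪≫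
    ((rsheafHomIso _ ≪≫ RIso eU).app _).symm⟩

end Groth.Agent.H16Derived.Dual
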