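import Groth.Agent.H16Derived.KFlat.Colim
import Groth.Agent.H16Derived.KFlat.Generic
import Groth.Agent.H16Derived.KInjRes.Main
import Mathlib.Algebra.Homology.DerivedCategory.KInjective
import Mathlib.Algebra.Homology.HomotopyCategory.MappingCone
import Mathlib.CategoryTheory.Limits.Preserves.Finite
import Mathlib.CategoryTheory.Adjunction.PartialAdjoint
import Mathlib.CategoryTheory.Adjunction.AdjointFunctorTheorems

/-!
# Internal hom complexes for a cocontinuous bifunctor

For a bifunctor `F` on a Grothendieck abelian category, cocontinuous in the second variable,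
`Tot F(K, -)` has a right adjoint on complexes; it computes the right adjoint of the derived functor
and turns termwise split short exact sequences in `K` into short exact sequences.
-/

set_option autoImplicit false
set_option linter.style.haveILetI false

universe u

open CategoryTheory CategoryTheory.Limits Pretriangulated Opposite

attribute [local instance] HasDerivedCategory.standard

namespace Groth.Agent.H16Derived.Dual

open Groth.Agent.H16Derived.KFlat

variable {A : Type (u + 1)} [Category.{u} A] [Abelian A] [IsGrothendieckAbelian.{u} A]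
  [HasCountableCoproducts A]

omit [IsGrothendieckAbelian.{u} A] [HasCountableCoproducts A] in
/-- The cone of an identity is contractible. -/
lemma nonempty_homotopy_cone_id (X : CochainComplex A ℤ) :
    Nonempty (Homotopy (𝟙 (CochainComplex.mappingCone (𝟙 X))) 0) := by
  let q := HomotopyCategory.quotient A (ComplexShape.up ℤ)
  haveI : IsIso (CochainComplex.mappingCone.triangleh (𝟙 X)).mor₁ := inferInstanceAs (IsIso (q.map (𝟙 X)))
  have h : IsZero (q.obj (CochainComplex.mappingCone (𝟙 X))) :=
    Triangle.isZero₃_of_isIso₁ _ (HomotopyCategory.mappingCone_triangleh_distinguished (𝟙 X)) this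
  exact ⟨HomotopyCategory.homotopyOfEq _ _ (h.eq_of_src _ _)⟩

omit [IsGrothendieckAbelian.{u} A] [HasCountableCoproducts A] in
/-- A null-homotopic map extends along a degreewise split monomorphism. -/
lemma exists_extend {P P' I : CochainComplex A ℤ} (i : P ⟶ P') (r : ∀ n, P'.X n ⟶ P.X n)
    (hr : ∀ n, i.f n ≫ r n = 𝟙 _) (y : P ⟶ I) (h : Homotopy y 0) :
    ∃ m : P' ⟶ I, i ≫ m = y ∧ Nonempty (Homotopy m 0) := by
  let hm : ∀ a b, (ComplexShape.up ℤ).Rel b a → (P'.X a ⟶ I.X b) := fun a b _ => r a ≫ h.hom a b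
  refine ⟨Homotopy.nullHomotopicMap' hm, ?_, ⟨Homotopy.nullHomotopy' hm⟩⟩
  rw [Homotopy.comp_nullHomotopicMap']
  refine HomologicalComplex.hom_ext _ _ fun n => ?_
  rw [Homotopy.nullHomotopicMap'_f (show (ComplexShape.up ℤ).Rel (n - 1) n from sub_add_cancel n 1)
    (show (ComplexShape.up ℤ).Rel n (n + 1) from rfl)]
  have hn := h.comm n
  rw [dNext_eq _ (show (ComplexShape.up ℤ).Rel n (n + 1) from rfl),
    prevD_eq _ (show (ComplexShape.up ℤ).Rel (n - 1) n from sub_add_cancel n 1),
    HomologicalComplex.zero_f, add_zero] at hn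
  rw [hn]
  simp only [hm, reassoc_of% hr]

variable (F : A ⥤ A ⥤ A) [F.Additive] [∀ a, (F.obj a).Additive]
  [∀ a, PreservesColimitsOfSize.{u, u} (F.obj a)]

instance isLeftAdjoint_tot (K : CochainComplex A ℤ) : (tot F K).IsLeftAdjoint := by
  haveI : ∀ (J : Type u) [Category.{u} J], PreservesColimitsOfShape J (tot F K) := fun J _ => by
    haveI : ∀ a : A, PreservesColimitsOfShape J (F.obj a) := fun a => inferInstance
    exact ⟨fun {D} => ⟨fun {c} hc => ⟨isColimitTot (F := F) K hc⟩⟩⟩
  haveI : PreservesColimitsOfSize.{u, u} (tot F K) := ⟨fun {J} _ => this J⟩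
  exact isLeftAdjoint_of_preservesColimits_of_isSeparating
    (isSeparator_separator (CochainComplex A ℤ)) _

/-- The adjunction `Tot F(K, -) ⊣ hom(K, -)`. -/
noncomputable abbrev homAdj (K : CochainComplex A ℤ) : tot F K ⊣ (tot F K).rightAdjoint :=
  Adjunction.ofIsLeftAdjoint _

/-- The complex `hom(K, I)`. -/
noncomputable abbrev homCx (K I : CochainComplex A ℤ) : CochainComplex A ℤ :=
  (tot F K).rightAdjoint.obj I

variable (K : CochainComplex A ℤ) {X I : CochainComplex A ℤ}

/-- The retraction of `Tot F(K, X ⟶ cone 𝟙)` in each degree. -/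
noncomputable def totRetr (X : CochainComplex A ℤ) (n : ℤ) :
    ((tot F K).obj (CochainComplex.mappingCone (𝟙 X))).X n ⟶ ((tot F K).obj X).X n :=
  HomologicalComplex.mapBifunctorDesc fun p q h =>
    (F.obj (K.X p)).map ((CochainComplex.mappingCone.snd (𝟙 X)).v q q (add_zero q)) ≫
      HomologicalComplex.ιMapBifunctor K X F (ComplexShape.up ℤ) p q n h

omit [∀ a, PreservesColimitsOfSize.{u, u} (F.obj a)] [IsGrothendieckAbelian.{u} A] in
lemma totRetr_spec (X : CochainComplex A ℤ) (n : ℤ) :
    ((tot F K).map (CochainComplex.mappingCone.inr (𝟙 X))).f n ≫ totRetr F K X n = 𝟙 _ := by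
  refine HomologicalComplex.mapBifunctor.hom_ext fun p q h => ?_
  refine (Category.assoc _ _ _).symm.trans ?_
  refine (congrArg (· ≫ _)
    (ι_tot_map (F := F) K (CochainComplex.mappingCone.inr (𝟙 X)) p q n h)).trans ?_
  refine (Category.assoc _ _ _).trans ?_
  refine (congrArg (_ ≫ ·) (HomologicalComplex.ι_mapBifunctorDesc _ p q h)).trans ?_
  refine (Category.assoc _ _ _).symm.trans ?_
  refine (congrArg (· ≫ _) ((F.obj (K.X p)).map_comp _ _).symm).trans ?_
  rw [CochainComplex.mappingCone.inr_f_snd_v, CategoryTheory.Functor.map_id]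
  exact (Category.id_comp _).trans (Category.comp_id _).symm

/-- Being null-homotopic is invariant under the adjunction. -/
theorem nonempty_homotopy_homEquiv (f : X ⟶ homCx F K I) :
    Nonempty (Homotopy f 0) ↔ Nonempty (Homotopy (((homAdj F K).homEquiv _ _).symm f) 0) := by
  constructor
  · rintro ⟨h⟩
    rw [Adjunction.homEquiv_counit]
    exact ⟨((totHomotopy (F := F) K h).compRight _).trans
      (Homotopy.ofEq (by rw [Functor.map_zero, zero_comp]))⟩
  · rintro ⟨h⟩
    let i := CochainComplex.mappingCone.inr (𝟙 X)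
    obtain ⟨m, hfac, -⟩ := exists_extend ((tot F K).map i) (totRetr F K X) (totRetr_spec F K X) _ h
    obtain ⟨hc⟩ := nonempty_homotopy_cone_id X
    have hf : f = i ≫ (homAdj F K).homEquiv _ _ m := by
      rw [← Adjunction.homEquiv_naturality_left, hfac, Equiv.apply_symm_apply]
    rw [hf]
    exact ⟨(Homotopy.ofEq (by rw [Category.id_comp])).trans
      (((hc.compRight _).compLeft i).trans (Homotopy.ofEq (by rw [zero_comp, comp_zero])))⟩

variable [I.IsKInjective]

/-- `hom(K, I)` is K-injective. -/
theorem isKInjective_homCx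
    (hK : ∀ W : CochainComplex A ℤ, W.Acyclic → ((tot F K).obj W).Acyclic) :
    (homCx F K I).IsKInjective where
  nonempty_homotopy_zero {W} f hW :=
    (nonempty_homotopy_homEquiv F K f).2
      (CochainComplex.IsKInjective.nonempty_homotopy_zero _ (hK W hW))

omit [IsGrothendieckAbelian.{u} A] [HasCountableCoproducts A] in
lemma Q_map_surjective {X : CochainComplex A ℤ}
    (g : DerivedCategory.Q.obj X ⟶ DerivedCategory.Q.obj I) :
    ∃ m : X ⟶ I, DerivedCategory.Q.map m = g := by
  obtain ⟨ψ', hψ'⟩ := (CochainComplex.IsKInjective.Qh_map_bijective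
      ((HomotopyCategory.quotient _ _).obj X) I).2
    ((DerivedCategory.quotientCompQhIso _).hom.app X ≫ g ≫
      (DerivedCategory.quotientCompQhIso _).inv.app I)
  obtain ⟨ψ, rfl⟩ := (HomotopyCategory.quotient _ _).map_surjective ψ'
  exact ⟨ψ, by
    rw [← cancel_epi ((DerivedCategory.quotientCompQhIso _).hom.app X),
      ← DerivedCategory.quotientCompQhIso_hom_naturality, hψ', Category.assoc, Category.assoc,
      Iso.inv_hom_id_app]
    exact congrArg (_ ≫ ·) (Category.comp_id _)⟩

omit [IsGrothendieckAbelian.{u} A] [HasCountableCoproducts A] in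
lemma Q_map_eq_zero_iff {X : CochainComplex A ℤ} (m : X ⟶ I) :
    DerivedCategory.Q.map m = 0 ↔ Nonempty (Homotopy m 0) := by
  constructor
  · intro e
    refine ⟨HomotopyCategory.homotopyOfEq _ _ ((CochainComplex.IsKInjective.Qh_map_bijective
      ((HomotopyCategory.quotient _ _).obj X) I).1 ?_)⟩
    rw [← cancel_mono ((DerivedCategory.quotientCompQhIso _).hom.app I),
      DerivedCategory.quotientCompQhIso_hom_naturality,
      DerivedCategory.quotientCompQhIso_hom_naturality, e, Functor.map_zero]
  · rintro ⟨h⟩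
    rw [← cancel_epi ((DerivedCategory.quotientCompQhIso _).hom.app X),
      ← DerivedCategory.quotientCompQhIso_hom_naturality, HomotopyCategory.eq_of_homotopy _ _ h]
    simp

section Derived

variable (hK : ∀ W : CochainComplex A ℤ, W.Acyclic → ((tot F K).obj W).Acyclic)
  {Φ : DerivedCategory A ⥤ DerivedCategory A}
  (e : DerivedCategory.Q ⋙ Φ ≅ tot F K ⋙ DerivedCategory.Q)

/-- The representing map. -/
noncomputable def repMap (I : CochainComplex A ℤ) :
    Φ.obj (DerivedCategory.Q.obj (homCx F K I)) ⟶ DerivedCategory.Q.obj I :=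
  e.hom.app (homCx F K I) ≫ DerivedCategory.Q.map ((homAdj F K).counit.app I)

omit [I.IsKInjective] in
lemma rep_apply (m : X ⟶ homCx F K I) :
    Φ.map (DerivedCategory.Q.map m) ≫ repMap F K e I =
      e.hom.app X ≫ DerivedCategory.Q.map (((homAdj F K).homEquiv _ _).symm m) := by
  rw [repMap, Adjunction.homEquiv_counit, Functor.map_comp]
  exact e.hom.naturality_assoc m _

include hK in
theorem bijective_repMap (Z : DerivedCategory A) :
    Function.Bijective (fun x : Z ⟶ DerivedCategory.Q.obj (homCx F K I) =>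
      Φ.map x ≫ repMap F K e I) := by
  haveI := isKInjective_homCx (I := I) F K hK
  obtain ⟨X, ⟨eZ⟩⟩ := (Localization.essSurj DerivedCategory.Q
    (HomologicalComplex.quasiIso A (ComplexShape.up ℤ))).mem_essImage Z
  constructor
  · intro x y hxy
    dsimp only at hxy
    obtain ⟨m, hm⟩ := Q_map_surjective (eZ.hom ≫ x)
    obtain ⟨m', hm'⟩ := Q_map_surjective (eZ.hom ≫ y)
    rw [← cancel_epi eZ.hom, ← hm, ← hm', ← sub_eq_zero, ← Functor.map_sub, Q_map_eq_zero_iff,
      nonempty_homotopy_homEquiv, ← Q_map_eq_zero_iff, Adjunction.homEquiv_counit, Functor.map_sub,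
      Preadditive.sub_comp, Functor.map_sub, sub_eq_zero, ← cancel_epi (e.hom.app X),
      ← Adjunction.homEquiv_counit, ← Adjunction.homEquiv_counit, ← rep_apply, ← rep_apply, hm, hm',
      Functor.map_comp, Functor.map_comp, Category.assoc, Category.assoc, hxy]
  · intro g
    obtain ⟨m, hm⟩ := Q_map_surjective (e.inv.app X ≫ Φ.map eZ.hom ≫ g)
    refine ⟨eZ.inv ≫ DerivedCategory.Q.map ((homAdj F K).homEquiv _ _ m), ?_⟩
    dsimp only
    rw [Functor.map_comp, Category.assoc, rep_apply, Equiv.symm_apply_apply, hm]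
    simp

/-- `hom(K, I)` represents `Hom(Φ -, I)`. -/
noncomputable def representableBy :
    (Φ.op ⋙ yoneda.obj (DerivedCategory.Q.obj I)).RepresentableBy
      (DerivedCategory.Q.obj (homCx F K I)) where
  homEquiv := Equiv.ofBijective _ (bijective_repMap F K hK e _)
  homEquiv_comp f x := by
    change Φ.map (f ≫ x) ≫ _ = Φ.map f ≫ Φ.map x ≫ _
    rw [Functor.map_comp, Category.assoc]

include hK e in
/-- The derived functor is a left adjoint. -/
theorem isLeftAdjoint_derived : Φ.IsLeftAdjoint := by
  obtain ⟨N, j, hN⟩ := KInjRes.exists_resolution_functor (A := A)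
  apply Functor.isLeftAdjoint_of_rightAdjointObjIsDefined_eq_top
  ext Y
  simp only [Pi.top_apply, Prop.top_eq_true, iff_true]
  rw [Functor.rightAdjointObjIsDefined_iff]
  obtain ⟨M, ⟨eM⟩⟩ := (Localization.essSurj DerivedCategory.Q
    (HomologicalComplex.quasiIso A (ComplexShape.up ℤ))).mem_essImage Y
  haveI : IsIso (DerivedCategory.Q.map (j.app M)) :=
    (DerivedCategory.isIso_Q_map_iff_quasiIso A _).2 (hN M).2.1
  haveI := (hN M).2.2.1
  exact ((representableBy F K (I := N.obj M) hK e).ofIso
    (Functor.isoWhiskerLeft Φ.op (yoneda.mapIso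
      ((asIso (DerivedCategory.Q.map (j.app M))).symm ≪≫ eM)))).isRepresentable

/-- The right adjoint is computed by `hom(K, -)` on K-injective complexes. -/
noncomputable def rightObjIso {R : DerivedCategory A ⥤ DerivedCategory A} (adj : Φ ⊣ R) :
    R.obj (DerivedCategory.Q.obj I) ≅ DerivedCategory.Q.obj (homCx F K I) :=
  (adj.representableBy (DerivedCategory.Q.obj I)).uniqueUpToIso (representableBy F K hK e)

end Derived

end Groth.Agent.H16Derived.Dual

namespace Groth.Agent.H16Derived.Dual

open Groth.Agent.H16Derived.KFlat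

variable {A : Type (u + 1)} [Category.{u} A] [Abelian A] [IsGrothendieckAbelian.{u} A]
  [HasCountableCoproducts A]
variable (F : A ⥤ A ⥤ A) [F.Additive] [∀ a, (F.obj a).Additive]
  [∀ a, PreservesColimitsOfSize.{u, u} (F.obj a)]

/-- `hom` is contravariant in the first complex. -/
noncomputable def homPre {K K' : CochainComplex A ℤ} (f : K ⟶ K') (I : CochainComplex A ℤ) :
    homCx F K' I ⟶ homCx F K I :=
  (homAdj F K).homEquiv _ _ ((F.map₂CochainComplex.map f).app _ ≫ (homAdj F K').counit.app I)

lemma comp_homPre {K K' : CochainComplex A ℤ} (f : K ⟶ K') {I Z : CochainComplex A ℤ}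
    (x : Z ⟶ homCx F K' I) :
    x ≫ homPre F f I = (homAdj F K).homEquiv _ _
      ((F.map₂CochainComplex.map f).app Z ≫ ((homAdj F K').homEquiv _ _).symm x) := by
  rw [homPre, ← Adjunction.homEquiv_naturality_left, Adjunction.homEquiv_counit]
  exact congrArg _ ((Category.assoc _ _ _).symm.trans
    ((congrArg (· ≫ _) ((F.map₂CochainComplex.map f).naturality x)).trans (Category.assoc _ _ _)))

lemma homPre_comp_eq_zero {K K' K'' : CochainComplex A ℤ} (f : K ⟶ K') (g : K' ⟶ K'')
    (w : f ≫ g = 0) (I : CochainComplex A ℤ) :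
    homPre F g I ≫ homPre F f I = 0 := by
  rw [comp_homPre, homPre, Equiv.symm_apply_apply]
  refine ((homAdj F K).homEquiv _ _).symm.injective ?_
  rw [Equiv.symm_apply_apply, Adjunction.homEquiv_counit, Functor.map_zero, zero_comp,
    ← Category.assoc, ← NatTrans.comp_app, ← Functor.map_comp, w]
  refine (congrArg (· ≫ _) ?_).trans zero_comp
  refine HomologicalComplex.hom_ext _ _ fun n => HomologicalComplex.mapBifunctor.hom_ext fun p q h => ?_
  refine (HomologicalComplex.ι_mapBifunctorMap _ _ _ _ p q n h).trans ?_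
  simp
  exact comp_zero.symm

section Split

variable (S : ShortComplex (CochainComplex A ℤ))
  (σ : ∀ n, (S.map (HomologicalComplex.eval A _ n)).Splitting)

/-- The retraction of the splitting, typed degreewise. -/
noncomputable def rr (p : ℤ) : S.X₂.X p ⟶ S.X₁.X p := (σ p).r

/-- The section of the splitting, typed degreewise. -/
noncomputable def ss (p : ℤ) : S.X₃.X p ⟶ S.X₂.X p := (σ p).s

omit [IsGrothendieckAbelian.{u} A] [HasCountableCoproducts A] in
lemma f_rr (p : ℤ) : S.f.f p ≫ rr S σ p = 𝟙 _ := (σ p).f_r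

omit [IsGrothendieckAbelian.{u} A] [HasCountableCoproducts A] in
lemma ss_g (p : ℤ) : ss S σ p ≫ S.g.f p = 𝟙 _ := (σ p).s_g

omit [IsGrothendieckAbelian.{u} A] [HasCountableCoproducts A] in
lemma g_ss (p : ℤ) : S.g.f p ≫ ss S σ p = 𝟙 _ - rr S σ p ≫ S.f.f p :=
  eq_sub_of_add_eq' (σ p).id

/-- The degreewise retraction of `Tot F(S.f, Z)`. -/
noncomputable def totR (Z : CochainComplex A ℤ) (n : ℤ) :
    ((tot F S.X₂).obj Z).X n ⟶ ((tot F S.X₁).obj Z).X n :=
  HomologicalComplex.mapBifunctorDesc fun p q h =>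
    (F.map (rr S σ p)).app (Z.X q) ≫
      HomologicalComplex.ιMapBifunctor S.X₁ Z F (ComplexShape.up ℤ) p q n h

/-- The degreewise section of `Tot F(S.g, Z)`. -/
noncomputable def totS (Z : CochainComplex A ℤ) (n : ℤ) :
    ((tot F S.X₃).obj Z).X n ⟶ ((tot F S.X₂).obj Z).X n :=
  HomologicalComplex.mapBifunctorDesc fun p q h =>
    (F.map (ss S σ p)).app (Z.X q) ≫
      HomologicalComplex.ιMapBifunctor S.X₂ Z F (ComplexShape.up ℤ) p q n h

omit [∀ a, PreservesColimitsOfSize.{u, u} (F.obj a)] [IsGrothendieckAbelian.{u} A] in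
lemma ι_map₂ {K K' : CochainComplex A ℤ} (f : K ⟶ K') (Z : CochainComplex A ℤ) (p q n : ℤ)
    (h : p + q = n) :
    HomologicalComplex.ιMapBifunctor K Z F (ComplexShape.up ℤ) p q n h ≫
        ((F.map₂CochainComplex.map f).app Z).f n =
      (F.map (f.f p)).app (Z.X q) ≫
        HomologicalComplex.ιMapBifunctor K' Z F (ComplexShape.up ℤ) p q n h := by
  refine (HomologicalComplex.ι_mapBifunctorMap _ _ _ _ p q n h).trans ?_
  refine congrArg ((F.map (f.f p)).app (Z.X q) ≫ ·) ?_
  refine (congrArg (· ≫ _) ((F.obj (K'.X p)).map_id (Z.X q))).trans (Category.id_comp _)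

omit [∀ a, PreservesColimitsOfSize.{u, u} (F.obj a)] [IsGrothendieckAbelian.{u} A] in
lemma totR_spec (Z : CochainComplex A ℤ) (n : ℤ) :
    ((F.map₂CochainComplex.map S.f).app Z).f n ≫ totR F S σ Z n = 𝟙 _ := by
  refine HomologicalComplex.mapBifunctor.hom_ext fun p q h => ?_
  refine (Category.assoc _ _ _).symm.trans ?_
  refine (congrArg (· ≫ _) (ι_map₂ F S.f Z p q n h)).trans ?_
  refine (Category.assoc _ _ _).trans ?_
  refine (congrArg (_ ≫ ·) (HomologicalComplex.ι_mapBifunctorDesc _ p q h)).trans ?_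
  refine (Category.assoc _ _ _).symm.trans ?_
  rw [← NatTrans.comp_app, ← F.map_comp, f_rr, CategoryTheory.Functor.map_id]
  exact (Category.id_comp _).trans (Category.comp_id _).symm

omit [∀ a, PreservesColimitsOfSize.{u, u} (F.obj a)] [IsGrothendieckAbelian.{u} A] in
lemma totS_spec (Z : CochainComplex A ℤ) (n : ℤ) :
    totS F S σ Z n ≫ ((F.map₂CochainComplex.map S.g).app Z).f n = 𝟙 _ := by
  refine HomologicalComplex.mapBifunctor.hom_ext fun p q h => ?_
  refine (Category.assoc _ _ _).symm.trans ?_
  refine (congrArg (· ≫ _) (HomologicalComplex.ι_mapBifunctorDesc _ p q h)).trans ?_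
  refine (Category.assoc _ _ _).trans ?_
  refine (congrArg (_ ≫ ·) (ι_map₂ F S.g Z p q n h)).trans ?_
  refine (Category.assoc _ _ _).symm.trans ?_
  rw [← NatTrans.comp_app, ← F.map_comp, ss_g, CategoryTheory.Functor.map_id]
  exact (Category.id_comp _).trans (Category.comp_id _).symm

include σ in
omit [∀ a, PreservesColimitsOfSize.{u, u} (F.obj a)] [IsGrothendieckAbelian.{u} A] in
lemma exists_desc {Z I : CochainComplex A ℤ} (y : (tot F S.X₂).obj Z ⟶ I)
    (hy : (F.map₂CochainComplex.map S.f).app Z ≫ y = 0) :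
    ∃ z : (tot F S.X₃).obj Z ⟶ I, (F.map₂CochainComplex.map S.g).app Z ≫ z = y := by
  have key : ∀ n, ((F.map₂CochainComplex.map S.g).app Z).f n ≫ totS F S σ Z n ≫ y.f n = y.f n := by
    intro n
    refine HomologicalComplex.mapBifunctor.hom_ext fun p q h => ?_
    refine (Category.assoc _ _ _).symm.trans ?_
    refine (congrArg (· ≫ _) (ι_map₂ F S.g Z p q n h)).trans ?_
    refine (Category.assoc _ _ _).trans ?_
    refine (congrArg (_ ≫ ·) ((Category.assoc _ _ _).symm.trans
      (congrArg (· ≫ y.f n) (HomologicalComplex.ι_mapBifunctorDesc _ p q h)))).trans ?_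
    have h1 := g_ss S σ p
    have h2 : (F.map (S.f.f p)).app (Z.X q) ≫
        HomologicalComplex.ιMapBifunctor S.X₂ Z F (ComplexShape.up ℤ) p q n h ≫ y.f n = 0 := by
      refine (Category.assoc _ _ _).symm.trans ?_
      refine (congrArg (· ≫ y.f n) (ι_map₂ F S.f Z p q n h).symm).trans ?_
      refine (Category.assoc _ _ _).trans ?_
      refine (congrArg (_ ≫ ·) (HomologicalComplex.congr_hom hy n)).trans ?_
      exact comp_zero
    refine (congrArg (_ ≫ ·) (Category.assoc _ _ _)).trans ?_
    refine (Category.assoc _ _ _).symm.trans ?_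
    rw [← NatTrans.comp_app, ← F.map_comp, h1]
    rw [F.map_sub, CategoryTheory.Functor.map_id, NatTrans.app_sub, Preadditive.sub_comp,
      NatTrans.id_app, Category.id_comp, F.map_comp, NatTrans.comp_app, Category.assoc]
    refine (congrArg (_ - ·) ((congrArg (_ ≫ ·) h2).trans comp_zero)).trans (sub_zero _)
  refine ⟨{ f := fun n => totS F S σ Z n ≫ y.f n, comm' := fun i j _ => ?_ },
    HomologicalComplex.hom_ext _ _ key⟩
  haveI : Epi (((F.map₂CochainComplex.map S.g).app Z).f i) :=
    epi_of_epi_fac (totS_spec F S σ Z i)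
  rw [← cancel_epi (((F.map₂CochainComplex.map S.g).app Z).f i), ← Category.assoc, key, y.comm,
    ← Category.assoc (((F.map₂CochainComplex.map S.g).app Z).f i)]
  refine ((congrArg (· ≫ _) (((F.map₂CochainComplex.map S.g).app Z).comm i j)).trans ?_).symm
  rw [Category.assoc, key]

/-- `hom(-, I)` of a short complex. -/
noncomputable def homSeq (I : CochainComplex A ℤ) : ShortComplex (CochainComplex A ℤ) :=
  ShortComplex.mk (homPre F S.g I) (homPre F S.f I) (homPre_comp_eq_zero F S.f S.g S.zero I)

include σ in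
/-- Termwise split short exact sequences go to short exact sequences. -/
theorem shortExact_homSeq (I : CochainComplex A ℤ) : (homSeq F S I).ShortExact := by
  have hepi : ∀ Z, Epi ((F.map₂CochainComplex.map S.g).app Z) := fun Z =>
    haveI : ∀ n, Epi (((F.map₂CochainComplex.map S.g).app Z).f n) := fun n =>
      epi_of_epi_fac (totS_spec F S σ Z n)
    HomologicalComplex.epi_of_epi_f _ inferInstance
  haveI hmono : Mono (homSeq F S I).f := Preadditive.mono_of_cancel_zero _ fun {Z}
      (x : Z ⟶ homCx F S.X₃ I) (hx : x ≫ homPre F S.g I = 0) => show x = 0 by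
    rw [comp_homPre] at hx
    have h' := congrArg ((homAdj F S.X₂).homEquiv _ _).symm hx
    rw [Equiv.symm_apply_apply, Adjunction.homEquiv_counit _ _ _ (0 : Z ⟶ homCx F S.X₂ I),
      Functor.map_zero, zero_comp] at h'
    haveI := hepi Z
    have h'' := (cancel_epi ((F.map₂CochainComplex.map S.g).app Z)).1 (h'.trans comp_zero.symm)
    apply ((homAdj F S.X₃).homEquiv _ _).symm.injective
    rw [h'', Adjunction.homEquiv_counit _ _ _ (0 : Z ⟶ homCx F S.X₃ I), Functor.map_zero, zero_comp]
  haveI : Epi (homSeq F S I).g := by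
    haveI : ∀ n, Epi ((homSeq F S I).g.f n) := fun n => by
      let H := homCx F S.X₁ I
      let W := H⟦(-1 : ℤ)⟧
      let π : CochainComplex.mappingCone (𝟙 W) ⟶ H :=
        (CochainComplex.mappingCone.triangle (𝟙 W)).mor₃ ≫
          (shiftFunctorCompIsoId (CochainComplex A ℤ) (-1 : ℤ) 1 (by omega)).hom.app H
      have hπ : Epi (π.f n) := by
        haveI : IsSplitEpi ((CochainComplex.mappingCone.triangle (𝟙 W)).mor₃.f n) :=
          IsSplitEpi.mk' ⟨-((W.shiftFunctorObjXIso 1 n (n + 1) rfl).hom ≫
            (CochainComplex.mappingCone.inl (𝟙 W)).v (n + 1) n (by omega)), by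
              simp [CochainComplex.mappingCone.triangle,
                CochainComplex.HomComplex.Cochain.rightShift_v _ 1 0 (zero_add 1) n n (add_zero n) (n + 1) rfl]
              erw [Category.id_comp, Category.comp_id, Preadditive.neg_comp, Preadditive.comp_neg, neg_neg,
                CochainComplex.mappingCone.inl_v_fst_v]
              rfl⟩
        haveI : IsIso ((shiftFunctorCompIsoId (CochainComplex A ℤ) (-1 : ℤ) 1 (by omega)).hom.app H) :=
          inferInstance
        have hI : IsIso (((shiftFunctorCompIsoId (CochainComplex A ℤ) (-1 : ℤ) 1 (by omega)).hom.app H).f n) :=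
          ((HomologicalComplex.eval A (ComplexShape.up ℤ) n).mapIso
            ((shiftFunctorCompIsoId (CochainComplex A ℤ) (-1 : ℤ) 1 (by omega)).app H)).isIso_hom
        exact epi_comp' (f := (CochainComplex.mappingCone.triangle (𝟙 W)).mor₃.f n)
          inferInstance (@IsIso.epi_of_iso _ _ _ _ _ hI)
      obtain ⟨hc⟩ := nonempty_homotopy_cone_id W
      let y := ((homAdj F S.X₁).homEquiv _ _).symm π
      have hy : Homotopy y 0 :=
        ((nonempty_homotopy_homEquiv F S.X₁ π).1 ⟨(Homotopy.ofEq (Category.id_comp π).symm).trans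
          ((hc.compRight π).trans (Homotopy.ofEq zero_comp))⟩).some
      obtain ⟨m, hm, -⟩ := exists_extend ((F.map₂CochainComplex.map S.f).app _)
        (totR F S σ _) (totR_spec F S σ _) y hy
      have hlift : (homAdj F S.X₂).homEquiv _ _ m ≫ (homSeq F S I).g = π := by
        change _ ≫ homPre F S.f I = _
        rw [comp_homPre, Equiv.symm_apply_apply, hm]
        exact Equiv.apply_symm_apply _ _
      exact @epi_of_epi_fac _ _ _ _ _ _ _ _ hπ (HomologicalComplex.congr_hom hlift n)
    exact HomologicalComplex.epi_of_epi_f _ inferInstance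
  refine ShortComplex.ShortExact.mk ?_
  refine ShortComplex.exact_of_f_is_kernel _ (KernelFork.IsLimit.ofι' _ _ fun {Z}
    (x : Z ⟶ homCx F S.X₂ I) (hx : x ≫ homPre F S.f I = 0) => ?_)
  rw [comp_homPre] at hx
  have h' := congrArg ((homAdj F S.X₁).homEquiv _ _).symm hx
  rw [Equiv.symm_apply_apply, Adjunction.homEquiv_counit _ _ _ (0 : Z ⟶ homCx F S.X₁ I),
    Functor.map_zero, zero_comp] at h'
  have hz := exists_desc F S σ _ h'
  refine ⟨(homAdj F S.X₃).homEquiv _ _ hz.choose, ?_⟩
  change _ ≫ homPre F S.g I = _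
  rw [comp_homPre, Equiv.symm_apply_apply, hz.choose_spec, Equiv.apply_symm_apply]

end Split

end Groth.Agent.H16Derived.Dual
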